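import Mathlib
import Cfsg.Agent.Classical.Dickson2.Maximal
import Cfsg.Agent.AutPSL.Two

/-!
PGL(2,F) over its subgroup of index two, and the embedding of PGL(2,q) in PSL(2,q^2).
-/

set_option autoImplicit false

namespace Cfsg.Agent.Classical.Dickson2.PGLMax

open Matrix Cfsg.Agent.SL2Class
open Cfsg.Agent.RootSub.Dickson
open scoped MatrixGroups

variable {F : Type*} [Field F] [Fintype F]

local notation "SG" => Matrix.SpecialLinearGroup (Fin 2) F
local notation "PG" => Matrix.ProjectiveSpecialLinearGroup (Fin 2) F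
local notation "PL" => Matrix.ProjGenLinGroup (Fin 2) F

/-- The image of PSL(2,F) in PGL(2,F). -/
def special : Subgroup (Matrix.ProjGenLinGroup (Fin 2) F) :=
  (ProjectiveSpecialLinearGroup.toPGL (n := Fin 2) (R := F)).range

omit [Fintype F] in
theorem toPGL_proj (g : SG) :
    ProjectiveSpecialLinearGroup.toPGL (proj g) = ProjGenLinGroup.mk (Matrix.SpecialLinearGroup.toGL g) := rfl

omit [Fintype F] in
theorem toPGL_inj {x y : PG}
    (h : ProjectiveSpecialLinearGroup.toPGL x = ProjectiveSpecialLinearGroup.toPGL y) : x = y :=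
  ProjectiveSpecialLinearGroup.toPGL_injective h

omit [Fintype F] in
theorem range_eq :
    (Matrix.ProjGenLinGroup.mk.comp Matrix.SpecialLinearGroup.toGL).range = (special : Subgroup PL) := by
  ext y
  constructor
  · rintro ⟨g, rfl⟩
    exact ⟨proj g, rfl⟩
  · rintro ⟨x, rfl⟩
    obtain ⟨g, rfl⟩ := proj_surjective x
    exact ⟨g, rfl⟩

omit [Fintype F] in
theorem toPGL_mem (x : PG) : ProjectiveSpecialLinearGroup.toPGL x ∈ (special : Subgroup PL) := ⟨x, rfl⟩

omit [Fintype F] in
theorem mk_mem_special {g : GL (Fin 2) F} (h : IsSquare g.1.det) :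
    ProjGenLinGroup.mk g ∈ (special : Subgroup PL) := SubfieldPSL.mem_range_toPGL h

omit [Fintype F] in
theorem toPGL_conjA (P : GL (Fin 2) F) (y : PG) :
    ProjectiveSpecialLinearGroup.toPGL (AutPSL.conjA P y) =
      ProjGenLinGroup.mk P * ProjectiveSpecialLinearGroup.toPGL y * (ProjGenLinGroup.mk P)⁻¹ := by
  obtain ⟨g, rfl⟩ := proj_surjective y
  rw [conjA_proj, toPGL_proj, toPGL_proj, ← map_inv, ← map_mul, ← map_mul]
  congr 1
  exact Units.ext (AutPSL.conjSL_coe P g)

instance instFinitePL : Finite (Matrix.ProjGenLinGroup (Fin 2) F) :=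
  Finite.of_surjective _ ProjGenLinGroup.mk_surjective

theorem card_special : Nat.card (special : Subgroup PL) = Nat.card PG :=
  (Nat.card_congr (MonoidHom.ofInjective ProjectiveSpecialLinearGroup.toPGL_injective).toEquiv).symm

theorem card_comap (X : Subgroup PL) :
    Nat.card (X.comap ProjectiveSpecialLinearGroup.toPGL) = Nat.card (special ⊓ X : Subgroup PL) := by
  rw [← Subgroup.card_map_of_injective (ProjectiveSpecialLinearGroup.toPGL_injective (n := Fin 2) (R := F)),
    Subgroup.map_comap_eq]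
  rfl

theorem ne_two (hodd : Odd (Fintype.card F)) : ringChar F ≠ 2 := fun h => by
  have := FiniteField.even_card_iff_char_two.1 h
  rw [Nat.odd_iff] at hodd
  omega

theorem special_index (hodd : Odd (Fintype.card F)) : (special : Subgroup PL).index = 2 := by
  have h := (special : Subgroup PL).card_mul_index
  rw [card_special, card_pgl_two, ← card_pg (F := F),
    Nat.gcd_eq_left (by rw [Nat.odd_iff] at hodd; omega : 2 ∣ Fintype.card F - 1), mul_comm 2] at h
  exact Nat.eq_of_mul_eq_mul_left Nat.card_pos h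

theorem special_normal (hodd : Odd (Fintype.card F)) : (special : Subgroup PL).Normal :=
  Subgroup.normal_of_index_eq_two (special_index hodd)

theorem mem_special_of_odd (hodd : Odd (Fintype.card F)) {x : PL} {n : ℕ} (hn : Odd n) (hx : x ^ n = 1) :
    x ∈ (special : Subgroup PL) := by
  obtain ⟨k, rfl⟩ := hn
  have e : x = (x ^ 2) ^ (k + 1) := by
    rw [← pow_mul, show 2 * (k + 1) = 2 * k + 1 + 1 by ring, pow_succ, hx, one_mul]
  rw [e]
  exact Subgroup.pow_mem _ (Subgroup.sq_mem_of_index_two (special_index hodd) x) _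

section Maximal

variable (hodd : Odd (Fintype.card F)) (h5 : 5 ≤ Fintype.card F)
  {M : Subgroup (Matrix.ProjGenLinGroup (Fin 2) F)} (hM : IsCoatom M)
  (hML : ¬ (special : Subgroup (Matrix.ProjGenLinGroup (Fin 2) F)) ≤ M)
include hodd hM hML

theorem not_le_special : ¬ M ≤ (special : Subgroup PL) := fun h => by
  rcases h.eq_or_lt with e | hlt
  · exact hML e.ge
  · have h2 := special_index (F := F) hodd
    rw [hM.2 _ hlt, Subgroup.index_top] at h2
    omega

theorem card_eq_two_mul : Nat.card M = 2 * Nat.card (M.comap ProjectiveSpecialLinearGroup.toPGL) := by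
  haveI := special_normal (F := F) hodd
  have h2 : (special : Subgroup PL).relIndex M = 2 := by
    have hd := Subgroup.relIndex_dvd_index_of_normal (special : Subgroup PL) M
    rw [special_index hodd] at hd
    rcases (Nat.dvd_prime Nat.prime_two).1 hd with h | h
    · exact absurd (Subgroup.relIndex_eq_one.1 h) (not_le_special hodd hM hML)
    · exact h
  have hc : Nat.card ((special : Subgroup PL).subgroupOf M) =
      Nat.card (M.comap (ProjectiveSpecialLinearGroup.toPGL (n := Fin 2) (R := F))) := by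
    rw [card_comap, ← Subgroup.inf_subgroupOf_right,
      Nat.card_congr (Subgroup.subgroupOfEquivOfLe (inf_le_right : special ⊓ M ≤ M)).toEquiv]
  rw [← ((special : Subgroup PL).subgroupOf M).card_mul_index, hc, mul_comm]
  congr 1

include h5

/-- If a maximal subgroup normalises the image of a proper non-trivial subgroup, it is its normaliser. -/
theorem eq_normalizer {S : Subgroup PG} (hne : S ≠ ⊥) (htop : S ≠ ⊤)
    (hle : M ≤ Subgroup.normalizer (S.map ProjectiveSpecialLinearGroup.toPGL : Set PL)) :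
    Subgroup.normalizer (S.map ProjectiveSpecialLinearGroup.toPGL : Set PL) = M ∧
      M.comap ProjectiveSpecialLinearGroup.toPGL = Subgroup.normalizer (S : Set PG) := by
  have key : ∀ z : PG, ProjectiveSpecialLinearGroup.toPGL z ∈
      Subgroup.normalizer (S.map ProjectiveSpecialLinearGroup.toPGL : Set PL) ↔
        z ∈ Subgroup.normalizer (S : Set PG) := by
    intro z
    rw [Subgroup.mem_normalizer_iff, Subgroup.mem_normalizer_iff]
    have hm : ∀ u : PG, ProjectiveSpecialLinearGroup.toPGL u ∈ S.map ProjectiveSpecialLinearGroup.toPGL ↔ u ∈ S :=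
      fun u => Subgroup.mem_map_iff_mem ProjectiveSpecialLinearGroup.toPGL_injective
    constructor
    · intro h u
      have h' := h (ProjectiveSpecialLinearGroup.toPGL u)
      rwa [← map_inv, ← map_mul, ← map_mul, hm, hm] at h'
    · intro h y
      constructor
      · rintro ⟨u, hu, rfl⟩
        rw [← map_inv, ← map_mul, ← map_mul, hm]
        exact (h u).1 hu
      · rintro ⟨u, hu, hy⟩
        refine ⟨z⁻¹ * u * z, (h _).2 (by rw [show z * (z⁻¹ * u * z) * z⁻¹ = u by group]; exact hu), ?_⟩
        rw [map_mul, map_mul, map_inv, hy]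
        group
  have hN : Subgroup.normalizer (S.map ProjectiveSpecialLinearGroup.toPGL : Set PL) = M := by
    refine (hle.eq_or_lt.resolve_right fun hlt => ?_).symm
    have ht := hM.2 _ hlt
    have hSn : S.Normal := Subgroup.normalizer_eq_top_iff.1 (eq_top_iff.2 fun z _ => (key z).1 (by
      rw [ht]; exact Subgroup.mem_top _))
    haveI := isSimple_pg (F := F) (by omega)
    rcases hSn.eq_bot_or_eq_top with h | h
    exacts [hne h, htop h]
  refine ⟨hN, ?_⟩
  ext z
  rw [Subgroup.mem_comap, ← hN, key]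

omit h5 in
/-- A maximal subgroup is not a small 2-group. -/
theorem four_lt (h5 : 5 ≤ Fintype.card F) : 4 < Nat.card M := by
  by_contra hc
  have hpos : 0 < Nat.card (M.comap (ProjectiveSpecialLinearGroup.toPGL (n := Fin 2) (R := F))) := Nat.card_pos
  have h2 := card_eq_two_mul hodd hM hML
  obtain ⟨j, hj, hj2⟩ : ∃ j, Nat.card M = 2 ^ j ∧ j ≤ 2 := by
    rcases (show Nat.card M = 2 ∨ Nat.card M = 4 by omega) with h | h
    · exact ⟨1, h, by omega⟩
    · exact ⟨2, h, le_rfl⟩
  have hG := card_pgl_two F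
  have h8 : 2 ^ 3 ∣ Nat.card PL := by
    rw [hG]
    refine dvd_mul_of_dvd_right ?_ _
    obtain ⟨k, hk⟩ := hodd
    rw [hk, show (2 * k + 1) ^ 2 = 4 * (k * (k + 1)) + 1 by ring, Nat.add_sub_cancel]
    obtain ⟨c, hc⟩ := Nat.even_mul_succ_self k
    exact ⟨c, by rw [hc]; ring⟩
  haveI : Fact (Nat.Prime 2) := ⟨Nat.prime_two⟩
  obtain ⟨K, hK, hMK⟩ := Sylow.exists_subgroup_card_pow_succ (p := 2) (n := j)
    ((pow_dvd_pow 2 (show j + 1 ≤ 3 by omega)).trans h8) hj
  have hpow : 2 ^ (j + 1) ≤ 2 ^ 3 := Nat.pow_le_pow_right two_pos (by omega)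
  have hlt : M < K := lt_of_le_of_ne hMK fun e => by
    rw [← e, hj, pow_succ] at hK
    have := Nat.two_pow_pos j
    omega
  rw [hM.2 _ hlt, Subgroup.card_top, hG] at hK
  have : 5 * (5 ^ 2 - 1) ≤ Fintype.card F * (Fintype.card F ^ 2 - 1) :=
    Nat.mul_le_mul h5 (Nat.sub_le_sub_right (Nat.pow_le_pow_left h5 2) 1)
  omega

/-- A Klein group is not the trace of a maximal subgroup. -/
theorem no_klein {V : Subgroup PG} [IsKleinFour V]
    (h : M.comap ProjectiveSpecialLinearGroup.toPGL = V) : False := by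
  have h2 := PKlein.two_ne (F := F) hodd
  have hV4 : Nat.card V = 4 := IsKleinFour.card_four
  haveI := special_normal (F := F) hodd
  have hle : M ≤ Subgroup.normalizer (V.map ProjectiveSpecialLinearGroup.toPGL : Set PL) := by
    rw [← h, Subgroup.map_comap_eq]
    intro g hg
    rw [Subgroup.mem_normalizer_iff]
    intro y
    rw [Subgroup.mem_inf, Subgroup.mem_inf]
    exact and_congr ⟨fun hy => this.conj_mem y hy g, fun hy => show y ∈ (special : Subgroup PL) by simpa [mul_assoc] using this.conj_mem _ hy g⁻¹⟩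
      ⟨fun hy => mul_mem (mul_mem hg hy) (inv_mem hg),
        fun hy => by simpa [mul_assoc] using mul_mem (mul_mem (inv_mem hg) hy) hg⟩
  obtain ⟨-, he⟩ := eq_normalizer hodd h5 hM hML (S := V) (fun e => by rw [e, Subgroup.card_bot] at hV4; omega)
    (fun e => by
      rw [e, Subgroup.card_top] at hV4
      have hG := card_pg (F := F)
      have : 5 * (5 ^ 2 - 1) ≤ Fintype.card F * (Fintype.card F ^ 2 - 1) :=
        Nat.mul_le_mul h5 (Nat.sub_le_sub_right (Nat.pow_le_pow_left h5 2) 1)
      have : Nat.gcd 2 (Fintype.card F - 1) ≤ 2 := Nat.gcd_le_left _ two_pos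
      rw [hV4] at hG
      omega) hle
  have hN : Nat.card (Subgroup.normalizer (V : Set PG)) = 4 := by rw [← he, h, hV4]
  obtain ⟨h18, h38⟩ := PKlein.card_pg_two_part (F := F) h2 rfl
  have ho := Nat.odd_iff.1 hodd
  rcases (show (Fintype.card F % 8 = 1 ∨ Fintype.card F % 8 = 7) ∨
      (Fintype.card F % 8 = 3 ∨ Fintype.card F % 8 = 5) by omega) with h8 | h8
  · have := KleinN.eight_dvd_normalizer V (h18 h8)
    rw [hN] at this
    norm_num at this
  · rw [PKlein.normalizer_twelve h2 rfl h8 V] at hN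
    omega

end Maximal

/-! ### Subfield groups -/

section Subfield

variable {K : Type*} [Field K] [Fintype K]

theorem range_pglMap_le (hodd : Odd (Fintype.card F)) (ι : K →+* F) {m : ℕ} (hm : Even m)
    (hK : Fintype.card K ^ m = Fintype.card F) :
    (SubfieldPSL.pglMap ι).range ≤ (special : Subgroup PL) := by
  rintro _ ⟨w, rfl⟩
  induction w using Matrix.ProjGenLinGroup.induction_on with | mk g => ?_
  rw [SubfieldPSL.pglMap_mk]
  refine mk_mem_special ?_
  have h : (Matrix.GeneralLinearGroup.map ι g).1 = g.1.map ι := rfl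
  rw [h, ← RingHom.mapMatrix_apply, ← RingHom.map_det]
  have hd := ((Matrix.isUnit_iff_isUnit_det _).1 g.isUnit).ne_zero
  rw [FiniteField.isSquare_iff (ne_two hodd) ((map_ne_zero ι).2 hd), ← map_pow]
  obtain ⟨u, rfl⟩ := hm
  have ht : Fintype.card F = (Fintype.card K ^ u) * (Fintype.card K ^ u) := by rw [← hK, pow_add]
  have hd1 : g.1.det ^ (Fintype.card K ^ u - 1) = 1 := by
    have h1 := FiniteField.pow_card_pow (K := K) u g.1.det
    have h2 : 1 ≤ Fintype.card K ^ u := Nat.one_le_pow _ _ Fintype.card_pos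
    rw [← Nat.sub_add_cancel h2, pow_succ] at h1
    exact (mul_eq_right₀ hd).1 h1
  have hto : Fintype.card K ^ u % 2 = 1 := by
    rw [ht, Nat.odd_iff, Nat.mul_mod] at hodd
    rcases Nat.mod_two_eq_zero_or_one (Fintype.card K ^ u) with h | h
    · rw [h] at hodd; simp at hodd
    · exact h
  obtain ⟨k, hk⟩ : ∃ k, Fintype.card K ^ u = 2 * k + 1 := ⟨Fintype.card K ^ u / 2, by omega⟩
  have e : Fintype.card F / 2 = (Fintype.card K ^ u - 1) * (k + 1) := by
    rw [ht, hk, Nat.add_sub_cancel, show (2 * k + 1) * (2 * k + 1) = 2 * (2 * k * (k + 1)) + 1 by ring]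
    omega
  rw [e, pow_mul, hd1, one_pow, map_one]

theorem card_range_pglMap (ι : K →+* F) :
    Nat.card (SubfieldPSL.pglMap ι).range = Fintype.card K * (Fintype.card K ^ 2 - 1) := by
  rw [← card_pgl_two, ← Nat.card_congr (MonoidHom.ofInjective (SubfieldPSL.pglMap_injective ι)).toEquiv]

theorem range_pglMap_mono {K₁ : Type*} [Field K₁] [Fintype K₁] (ι : K →+* F) (ι₁ : K₁ →+* F)
    (h : ∃ u, Fintype.card K ^ u = Fintype.card K₁) :
    (SubfieldPSL.pglMap ι).range ≤ (SubfieldPSL.pglMap ι₁).range := by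
  rintro _ ⟨w, rfl⟩
  induction w using Matrix.ProjGenLinGroup.induction_on with | mk g => ?_
  choose a ha using fun i j => range_ringHom_le ι ι₁ h (g.1 i j)
  have hm : (Matrix.of a).map ι₁ = g.1.map ι := by ext i j; exact ha i j
  have hdet : (Matrix.of a).det ≠ 0 := by
    intro h0
    have e := congrArg Matrix.det hm
    rw [← RingHom.mapMatrix_apply, ← RingHom.map_det, h0, map_zero, ← RingHom.mapMatrix_apply,
      ← RingHom.map_det] at e
    exact ((Matrix.isUnit_iff_isUnit_det _).1 g.isUnit).ne_zero ((map_eq_zero ι).1 e.symm)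
  refine ⟨ProjGenLinGroup.mk (Matrix.GeneralLinearGroup.mkOfDetNeZero _ hdet), ?_⟩
  rw [SubfieldPSL.pglMap_mk, SubfieldPSL.pglMap_mk]
  congr 1
  exact Units.ext hm

omit [Fintype K] in
/-- Every subgroup over a subfield is so after a projective change of coordinates. -/
theorem exists_conj_form (ι : K →+* F) (φ : MulAut PG) :
    ∃ (ι' : K →+* F) (u : PL), subOver ι φ ≤
      ((SubfieldPSL.pglMap ι').range.map (MulAut.conj u).toMonoidHom).comap
        ProjectiveSpecialLinearGroup.toPGL := by
  obtain ⟨p, hp⟩ := CharP.exists F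
  haveI : Fact p.Prime := by
    obtain ⟨n, hp, -⟩ := FiniteField.card F p
    exact ⟨hp⟩
  obtain ⟨g, σ, rfl⟩ := AutPSL.exists_decomp_two p φ
  set ρ : GL (Fin 2) F := Matrix.GeneralLinearGroup.map (σ.symm : F →+* F) g
  refine ⟨(σ.symm : F →+* F).comp ι, (ProjGenLinGroup.mk ρ)⁻¹, fun y hy => ?_⟩
  rw [mem_subOver] at hy
  obtain ⟨w, hw⟩ := hy
  refine ⟨SubfieldPSL.pglMap ((σ.symm : F →+* F).comp ι) w, ⟨w, rfl⟩, ?_⟩
  show (ProjGenLinGroup.mk ρ)⁻¹ * _ * ((ProjGenLinGroup.mk ρ)⁻¹)⁻¹ = _
  have hσ : ∀ z : PG, SubfieldPSL.pglMap (σ.symm : F →+* F) (ProjectiveSpecialLinearGroup.toPGL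
      (AutPSL.fieldA σ z)) = ProjectiveSpecialLinearGroup.toPGL z := fun z => by
    obtain ⟨s, rfl⟩ := proj_surjective z
    show SubfieldPSL.pglMap (σ.symm : F →+* F)
      (ProjGenLinGroup.mk (Matrix.SpecialLinearGroup.toGL (AutPSL.fieldSL σ s))) = _
    rw [SubfieldPSL.pglMap_mk, toPGL_proj]
    congr 1
    refine Units.ext (Matrix.ext fun i j => ?_)
    exact σ.symm_apply_apply _
  have e := congrArg (SubfieldPSL.pglMap (σ.symm : F →+* F)) hw
  rw [MulAut.mul_apply, toPGL_conjA, map_mul, map_mul, map_inv, hσ, SubfieldPSL.pglMap_mk] at e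
  have e2 : SubfieldPSL.pglMap ((σ.symm : F →+* F).comp ι) w =
      SubfieldPSL.pglMap (σ.symm : F →+* F) (SubfieldPSL.pglMap ι w) := by
    induction w using Matrix.ProjGenLinGroup.induction_on with | mk k => ?_
    rfl
  rw [e2, e, inv_inv, ← mul_assoc, ← mul_assoc, inv_mul_cancel, one_mul, mul_assoc, inv_mul_cancel, mul_one]

theorem exists_conj_subgroup (ι : K →+* F) (φ : MulAut PG) :
    ∃ (ι' : K →+* F) (R : Subgroup PL), subOver ι φ ≤ R.comap ProjectiveSpecialLinearGroup.toPGL ∧
      Nat.card R = Fintype.card K * (Fintype.card K ^ 2 - 1) ∧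
      Nonempty (R ≃* Matrix.ProjGenLinGroup (Fin 2) K) ∧
      ∃ u : PL, R = (SubfieldPSL.pglMap ι').range.map (MulAut.conj u).toMonoidHom := by
  obtain ⟨ι', u, h⟩ := exists_conj_form ι φ
  refine ⟨ι', _, h, ?_, ⟨?_⟩, u, rfl⟩
  · rw [Subgroup.card_map_of_injective (MulAut.conj u).injective, card_range_pglMap]
  · exact ((Subgroup.equivMapOfInjective _ _ (MulAut.conj u).injective).symm.trans
      (MonoidHom.ofInjective (SubfieldPSL.pglMap_injective ι')).symm)

end Subfield

/-! ### The embedding into the quadratic extension -/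

section Embed

variable {E : Type*} [Field E] [Fintype E]

local notation "SE" => Matrix.SpecialLinearGroup (Fin 2) E
local notation "PE" => Matrix.ProjectiveSpecialLinearGroup (Fin 2) E

theorem exists_embedding (hodd : Odd (Fintype.card F)) (κ : F →+* E) (hE : Fintype.card F ^ 2 = Fintype.card E) :
    ∃ Ψ : PL →* PE, Function.Injective Ψ ∧ ∀ g : SG,
      Ψ (ProjectiveSpecialLinearGroup.toPGL (proj g)) = proj (Matrix.SpecialLinearGroup.map κ g) := by
  have hoddE : Odd (Fintype.card E) := hE ▸ hodd.pow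
  have hr : ∀ w : PL, SubfieldPSL.pglMap κ w ∈
      (ProjectiveSpecialLinearGroup.toPGL (n := Fin 2) (R := E)).range :=
    fun w => range_pglMap_le hoddE κ even_two hE ⟨w, rfl⟩
  let e := MonoidHom.ofInjective (ProjectiveSpecialLinearGroup.toPGL_injective (n := Fin 2) (R := E))
  refine ⟨e.symm.toMonoidHom.comp ((SubfieldPSL.pglMap κ).codRestrict _ hr),
    e.symm.injective.comp fun a b h => SubfieldPSL.pglMap_injective κ (congrArg Subtype.val h), fun g => ?_⟩
  refine ProjectiveSpecialLinearGroup.toPGL_injective ?_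
  show (e (e.symm ⟨_, hr _⟩)).1 = _
  rw [e.apply_symm_apply]
  show SubfieldPSL.pglMap κ (ProjGenLinGroup.mk (Matrix.SpecialLinearGroup.toGL g)) = _
  rw [SubfieldPSL.pglMap_mk, toPGL_proj]
  congr 1
  exact Units.ext (Matrix.ext fun i j => rfl)

omit [Fintype F] [Fintype E] in
theorem tor_pull {κ : F →+* E} {Ψ : PL →* PE} (hΨ : ∀ g : SG,
      Ψ (ProjectiveSpecialLinearGroup.toPGL (proj g)) = proj (Matrix.SpecialLinearGroup.map κ g)) (x y : PG) :
    Ψ (ProjectiveSpecialLinearGroup.toPGL x) ∈ tor (Ψ (ProjectiveSpecialLinearGroup.toPGL y)) ↔ x ∈ tor y := by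
  obtain ⟨h, rfl⟩ := proj_surjective x
  obtain ⟨g, rfl⟩ := proj_surjective y
  rw [hΨ, hΨ, tor_proj, tor_proj, proj_mem_torus_iff, proj_mem_torus_iff, Subgroup.mem_centralizer_singleton_iff,
    Subgroup.mem_centralizer_singleton_iff, ← map_mul, ← map_mul]
  have hinj : Function.Injective (Matrix.SpecialLinearGroup.map (n := Fin 2) κ) := fun A B e => Subtype.ext (by
    ext i j
    exact κ.injective (congrArg (fun S : SE => S.1 i j) e))
  exact hinj.eq_iff

end Embed

end Cfsg.Agent.Classical.Dickson2.PGLMax
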