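import Mathlib
import Cfsg.Agent.Classical.Dickson2.PGL.Base

/-!
The possible images in PSL(2,q^2) of a maximal subgroup of PGL(2,q).
-/

set_option autoImplicit false

namespace Cfsg.Agent.Classical.Dickson2.PGLMax

open Matrix Cfsg.Agent.SL2Class
open Cfsg.Agent.RootSub.Dickson
open scoped MatrixGroups

section General

variable {G : Type*} [Group G]

theorem le_normalizer_of_forall {M X : Subgroup G} (h : ∀ g ∈ M, ∀ x ∈ X, g * x * g⁻¹ ∈ X) :
    M ≤ Subgroup.normalizer (X : Set G) := fun g hg => by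
  rw [Subgroup.mem_normalizer_iff]
  refine fun x => ⟨h g hg x, fun hx => ?_⟩
  have h' := h g⁻¹ (inv_mem hg) _ hx
  rwa [show g⁻¹ * (g * x * g⁻¹) * g⁻¹⁻¹ = x by group] at h'

theorem mem_normalizer_of_forall [Finite G] {g : G} {X : Subgroup G} (h : ∀ x ∈ X, g * x * g⁻¹ ∈ X) :
    g ∈ Subgroup.normalizer (X : Set G) := by
  have hle : X.map (MulAut.conj g).toMonoidHom ≤ X := by
    rintro _ ⟨x, hx, rfl⟩
    exact h x hx
  have e := Subgroup.eq_of_le_of_card_ge hle (Subgroup.card_map_of_injective (MulAut.conj g).injective).ge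
  rw [Subgroup.mem_normalizer_iff]
  refine fun x => ⟨h x, fun hx => ?_⟩
  rw [← e] at hx
  obtain ⟨x', hx', e'⟩ := hx
  rwa [← (MulAut.conj g).injective e']

end General

variable {F : Type*} [Field F] [Fintype F] {E : Type*} [Field E] [Fintype E]

local notation "SG" => Matrix.SpecialLinearGroup (Fin 2) F
local notation "PG" => Matrix.ProjectiveSpecialLinearGroup (Fin 2) F
local notation "PL" => Matrix.ProjGenLinGroup (Fin 2) F
local notation "PE" => Matrix.ProjectiveSpecialLinearGroup (Fin 2) E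
local notation "ρ" => ProjectiveSpecialLinearGroup.toPGL (n := Fin 2) (R := F)

variable (p : ℕ) [Fact p.Prime] [CharP F p] [CharP E p] {κ : F →+* E}
  {Ψ : Matrix.ProjGenLinGroup (Fin 2) F →* Matrix.ProjectiveSpecialLinearGroup (Fin 2) E}
  (hΨi : Function.Injective Ψ)
  (hΨ : ∀ g : Matrix.SpecialLinearGroup (Fin 2) F,
    Ψ (ProjectiveSpecialLinearGroup.toPGL (proj g)) = proj (Matrix.SpecialLinearGroup.map κ g))
  (hodd : Odd (Fintype.card F)) (h5 : 5 ≤ Fintype.card F)
  {M : Subgroup (Matrix.ProjGenLinGroup (Fin 2) F)} (hM : IsCoatom M)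
  (hML : ¬ (special : Subgroup (Matrix.ProjGenLinGroup (Fin 2) F)) ≤ M)

include hΨ hodd

omit [CharP E p] [CharP F p] [Fact p.Prime] in
theorem normalizes_tor {y : PG} (hle : M.map Ψ ≤ Subgroup.normalizer (tor (Ψ (ρ y)) : Set PE)) :
    M ≤ Subgroup.normalizer ((tor y).map ρ : Set PL) := by
  refine le_normalizer_of_forall fun g hg x hx => ?_
  obtain ⟨u, hu, rfl⟩ := hx
  obtain ⟨z, hz⟩ := (special_normal hodd).conj_mem _ (toPGL_mem u) g
  refine ⟨z, ?_, hz⟩
  rw [SetLike.mem_coe, ← tor_pull hΨ, hz, map_mul, map_mul, map_inv]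
  exact (Subgroup.mem_normalizer_iff.1 (hle ⟨g, hg, rfl⟩) _).1 ((tor_pull hΨ u y).2 hu)

include hΨi h5 hM hML

theorem toral_case {x : PE} (hx : x ^ p ≠ 1) (hle : M.map Ψ ≤ Subgroup.normalizer (tor x : Set PE)) :
    ∃ y : PG, y ^ p ≠ 1 ∧ M.comap ρ = Subgroup.normalizer (tor y : Set PG) ∧
      (Fintype.card F = 5 → Nat.card (tor y) ≠ 2) ∧
      Nonempty (M ≃* DihedralGroup (2 * Nat.card (tor y))) := by
  have hcard : Nat.card (M.map Ψ) = Nat.card M := Subgroup.card_map_of_injective hΨi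
  have h4 := four_lt hodd hM hML h5
  have hcd := cyclic_or_dihedral p hx hle
  obtain ⟨c, hc, hcx, hc2⟩ : ∃ c ∈ M, Ψ c ∈ tor x ∧ c * c ≠ 1 := by
    rcases hcd with ⟨hT, hcyc, -⟩ | ⟨-, k, -, -, ⟨e⟩, hk⟩
    · haveI := hcyc
      obtain ⟨⟨_, m, hm, rfl⟩, hgen⟩ := IsCyclic.exists_generator (α := M.map Ψ)
      refine ⟨m, hm, hT ⟨m, hm, rfl⟩, fun h => ?_⟩
      have ho := orderOf_eq_card_of_forall_mem_zpowers hgen
      rw [← Subgroup.orderOf_coe, orderOf_injective Ψ hΨi, hcard] at ho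
      have := le_of_pow_cases two_pos (show m ^ 2 = 1 by rw [pow_two, h])
      omega
    · have hk3 : 3 ≤ k := by omega
      have ho : orderOf ((e.symm (DihedralGroup.r 1) : M.map Ψ) : PE) = k := by
        rw [Subgroup.orderOf_coe, MulEquiv.orderOf_eq, DihedralGroup.orderOf_r_one]
      obtain ⟨m, hm, hme⟩ := (e.symm (DihedralGroup.r 1)).2
      rw [← hme] at ho
      have hn2 : ¬ orderOf (Ψ m) ∣ 2 := fun h => by
        rw [ho] at h
        have := Nat.le_of_dvd two_pos h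
        omega
      refine ⟨m, hm, ?_, fun h => hn2 (orderOf_dvd_of_pow_eq_one (by rw [← map_pow, pow_two, h, map_one]))⟩
      by_contra hn
      exact hn2 (orderOf_dvd_of_pow_eq_one (by
        rw [pow_two, (inverts_of_not_mem p hx (hle ⟨m, hm, rfl⟩) hn).1]))
  obtain ⟨y, hy⟩ : c * c ∈ (special : Subgroup PL) := Subgroup.mul_self_mem_of_index_two (special_index hodd) c
  have hy1 : Ψ (ρ y) ≠ 1 := fun h => hc2 (hy.symm.trans (hΨi (h.trans (map_one Ψ).symm)))
  have hyx : Ψ (ρ y) ∈ tor x := by rw [hy, map_mul]; exact mul_mem hcx hcx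
  have hyp : y ^ p ≠ 1 := fun h => semis_of_mem p hx hyx hy1 (by rw [← map_pow, ← map_pow, h, map_one, map_one])
  have hte : tor (Ψ (ρ y)) = tor x := tor_eq (ne_one_of_semis p hx) hyx hy1
  have hne : tor y ≠ ⊥ := fun h => ne_one_of_semis p hyp (Subgroup.mem_bot.1 (h ▸ mem_tor y))
  have htop : tor y ≠ ⊤ := fun h => normalizer_semis_ne_top p (by omega) hyp
    (top_le_iff.1 (h ▸ Subgroup.le_normalizer))
  obtain ⟨-, hcap⟩ := eq_normalizer hodd h5 hM hML hne htop (normalizes_tor hΨ hodd (hte ▸ hle))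
  have hM' : Nat.card M = 4 * Nat.card (tor y) := by
    rw [card_eq_two_mul hodd hM hML, hcap, card_normalizer_semis p hyp]; ring
  obtain ⟨w, hw, hw2, hwN, -, -⟩ := normalizer_semis p hyp
  refine ⟨y, hyp, hcap, fun hq ht => ?_, ?_⟩
  · have hc4 : Nat.card (Subgroup.normalizer (tor y : Set PG)) = 4 := by rw [card_normalizer_semis p hyp, ht]
    haveI : Nontrivial (Subgroup.normalizer (tor y : Set PG)) :=
      Finite.one_lt_card_iff_nontrivial.1 (by omega)
    haveI : IsKleinFour (Subgroup.normalizer (tor y : Set PG)) := by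
      refine ⟨hc4, (Monoid.exponent_eq_prime_iff Nat.prime_two).2 fun u hu => ?_⟩
      refine orderOf_eq_prime (Subtype.ext ?_) hu
      rw [Subgroup.coe_pow, OneMemClass.coe_one]
      by_cases hut : (u : PG) ∈ tor y
      · have hd := Subgroup.orderOf_dvd_natCard (tor y) hut
        rw [ht] at hd
        exact orderOf_dvd_iff_pow_eq_one.1 hd
      · rw [pow_two]; exact (inverts_of_not_mem p hyp u.2 hut).1
    exact no_klein hodd h5 hM hML hcap
  · rcases hcd with ⟨hT, -, -⟩ | ⟨-, k, -, -, ⟨e⟩, hk⟩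
    · exfalso
      have hwM : ρ w ∈ M := by rw [← Subgroup.mem_comap, hcap]; exact hwN
      exact hw ((tor_pull hΨ w y).1 (hte.symm ▸ hT ⟨_, hwM, rfl⟩))
    · have hke : k = 2 * Nat.card (tor y) := by omega
      exact ⟨((M.equivMapOfInjective Ψ hΨi).trans e).trans (MulEquiv.cast (M := fun n => DihedralGroup n) hke)⟩

theorem borel_case {x : PE} (hx1 : x ≠ 1) (hx : x ^ p = 1)
    (hle : M.map Ψ ≤ Subgroup.normalizer (tor x : Set PE)) :
    (∃ y : PG, y ≠ 1 ∧ y ^ p = 1 ∧ M.comap ρ = Subgroup.normalizer (tor y : Set PG) ∧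
      Nat.card M = Fintype.card F * (Fintype.card F - 1)) ∨
    ∃ x' : PE, x' ^ p ≠ 1 ∧ M.map Ψ ≤ Subgroup.normalizer (tor x' : Set PE) := by
  have hp2 : p ≠ 2 := fun h => by
    subst h
    exact ne_two hodd (ringChar.eq F 2)
  by_cases hc : ∃ c ∈ M, c ≠ 1 ∧ Ψ c ∈ tor x
  · obtain ⟨c, hc, hc1, hcx⟩ := hc
    have hcp : c ^ p = 1 := hΨi (by rw [map_pow, map_one]; exact unip_of_mem p hx1 hx hcx)
    obtain ⟨y, rfl⟩ := mem_special_of_odd hodd ((Fact.out : p.Prime).odd_of_ne_two hp2) hcp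
    have hy1 : y ≠ 1 := fun h => hc1 (by rw [h, map_one])
    have hyp : y ^ p = 1 := toPGL_inj (by rw [map_pow, map_one, hcp])
    have hte : tor (Ψ (ρ y)) = tor x := tor_eq hx1 hcx fun h => hc1 (hΨi (h.trans (map_one Ψ).symm))
    have hne : tor y ≠ ⊥ := fun h => hy1 (Subgroup.mem_bot.1 (h ▸ mem_tor y))
    have htop : tor y ≠ ⊤ := fun h => normalizer_unip_ne_top p hy1 hyp
      (top_le_iff.1 (h ▸ Subgroup.le_normalizer))
    obtain ⟨-, hcap⟩ := eq_normalizer hodd h5 hM hML hne htop (normalizes_tor hΨ hodd (hte ▸ hle))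
    refine Or.inl ⟨y, hy1, hyp, hcap, ?_⟩
    have h := card_normalizer_unip p hy1 hyp
    rw [Nat.gcd_eq_left (by rw [Nat.odd_iff] at hodd; omega : 2 ∣ Fintype.card F - 1)] at h
    rw [card_eq_two_mul hodd hM hML, hcap, mul_comm 2, h, mul_comm]
  right
  have htriv : ∀ z ∈ M.map Ψ, z ∈ tor x → z = 1 := by
    rintro _ ⟨m, hm, rfl⟩ hz
    by_contra h1
    exact hc ⟨m, hm, fun h => h1 (by rw [h, map_one]), hz⟩
  by_cases hsq : ∃ m ∈ M.map Ψ, m * m ≠ 1
  · obtain ⟨m, hm, hm2⟩ := hsq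
    have hmp : m ^ p ≠ 1 := fun h => hm2 (by
      rw [htriv m hm (borel_unip p hx1 hx (hle hm) h), mul_one])
    refine ⟨m, hmp, fun z hz => ?_⟩
    have hzm : z * m * z⁻¹ = m := by
      have := htriv _ (mul_mem (mul_mem (mul_mem hz hm) (inv_mem hz)) (inv_mem hm))
        (borel_comm p hx1 hx (hle hz) (hle hm))
      exact mul_inv_eq_one.1 this
    rw [mem_normalizer_map_iff, ← tor_conj, hzm]
  · exfalso
    have hsq' : ∀ m ∈ M.map Ψ, m * m = 1 := fun m hm => by
      by_contra h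
      exact hsq ⟨m, hm, h⟩
    have h4 := four_lt hodd hM hML h5
    have hcard : Nat.card (M.map Ψ) = Nat.card M := Subgroup.card_map_of_injective hΨi
    rw [← hcard] at h4
    have hsub : Nat.card (M.map Ψ) ≤ 2 := by
      by_cases hbot : ∀ z ∈ M.map Ψ, z = 1
      · rw [(Subgroup.eq_bot_iff_forall _).2 hbot, Subgroup.card_bot]; omega
      push Not at hbot
      obtain ⟨z, hz, hz1⟩ := hbot
      have hsub : ((M.map Ψ : Subgroup PE) : Set PE) ⊆ {1, z} := fun w hw => by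
        by_cases hw1 : w = 1
        · exact Or.inl hw1
        right
        have hn : ∀ v ∈ M.map Ψ, v ≠ 1 → v ∉ tor x := fun v hv hv1 hvt => hv1 (htriv v hv hvt)
        have h := htriv _ (mul_mem hz hw) (borel_invol p hx1 hx (hle hz) (hle hw) (hsq' z hz) (hsq' w hw)
          (hn z hz hz1) (hn w hw hw1))
        rw [Set.mem_singleton_iff, eq_inv_of_mul_eq_one_right h, inv_eq_of_mul_eq_one_right (hsq' z hz)]
      rw [← SetLike.coe_sort_coe, Nat.card_coe_set_eq]
      refine le_trans (Set.ncard_le_ncard hsub (Set.toFinite _)) ?_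
      exact le_trans (Set.ncard_insert_le _ _) (by rw [Set.ncard_singleton])
    omega

end Cfsg.Agent.Classical.Dickson2.PGLMax
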