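import Mathlib
import Cfsg.Agent.Classical.Dickson2.PGL.Cases

/-!
Maximal subgroups of PGL(2,q) of octahedral and subfield type.
-/

set_option autoImplicit false

namespace Cfsg.Agent.Classical.Dickson2.PGLMax

open Matrix Cfsg.Agent.SL2Class
open Cfsg.Agent.RootSub.Dickson
open scoped MatrixGroups

variable {F : Type*} [Field F] [Fintype F]

local notation "SG" => Matrix.SpecialLinearGroup (Fin 2) F
local notation "PG" => Matrix.ProjectiveSpecialLinearGroup (Fin 2) F
local notation "PL" => Matrix.ProjGenLinGroup (Fin 2) F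
local notation "ρ" => ProjectiveSpecialLinearGroup.toPGL (n := Fin 2) (R := F)

theorem le_special_of {A : Type*} [Group A] {M : Subgroup PL} (e : M ≃* A)
    (h : ∀ S : Subgroup A, (∀ (a : A) (n : ℕ), Odd n → a ^ n = 1 → a ∈ S) → S = ⊤)
    (hodd : Odd (Fintype.card F)) : M ≤ (special : Subgroup PL) := by
  intro m hm
  have hS := h ((special : Subgroup PL).comap (M.subtype.comp e.symm.toMonoidHom)) fun a n hn ha =>
    mem_special_of_odd hodd hn (by rw [← map_pow, ha, map_one])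
  have := (Subgroup.eq_top_iff' _).1 hS (e ⟨m, hm⟩)
  simpa using this

theorem alt_generated {n : ℕ} (S : Subgroup (alternatingGroup (Fin n)))
    (h : ∀ (a : alternatingGroup (Fin n)) (k : ℕ), Odd k → a ^ k = 1 → a ∈ S) : S = ⊤ := by
  rw [Subgroup.eq_top_iff']
  rintro ⟨σ, hσ⟩
  have hle : alternatingGroup (Fin n) ≤ S.map (alternatingGroup (Fin n)).subtype := by
    refine Equiv.Perm.closure_three_cycles_eq_alternating.symm.le.trans ((Subgroup.closure_le _).2 ?_)
    intro τ hτ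
    refine ⟨⟨τ, hτ.mem_alternatingGroup⟩, h _ 3 (by decide) (Subtype.ext ?_), rfl⟩
    rw [Subgroup.coe_pow, OneMemClass.coe_one, ← hτ.orderOf, pow_orderOf_eq_one]
  obtain ⟨⟨τ, hτ⟩, hS, e⟩ := hle hσ
  obtain rfl : τ = σ := e
  exact hS

omit [Fintype F] in
theorem upR_pow {K : Type*} [Field K] (r : K) : ∀ n : ℕ, upR r ^ n = upR ((n : K) * r) ∧ lowR r ^ n = lowR ((n : K) * r) := by
  intro n
  induction n with
  | zero =>
    constructor <;> refine Subtype.ext ?_ <;> ext i j <;> fin_cases i <;> fin_cases j <;> simp [coe_upR, coe_lowR]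
  | succ n ih =>
    constructor
    · rw [pow_succ, ih.1, ← upR_add]; congr 1; push_cast; ring
    · rw [pow_succ, ih.2, ← lowR_add]; congr 1; push_cast; ring

omit [Fintype F] in
theorem psl_generated {K : Type*} [Field K] [Fintype K] (p : ℕ) [CharP K p] (hp : Odd p)
    (S : Subgroup (Matrix.ProjectiveSpecialLinearGroup (Fin 2) K))
    (h : ∀ (a : Matrix.ProjectiveSpecialLinearGroup (Fin 2) K) (k : ℕ), Odd k → a ^ k = 1 → a ∈ S) : S = ⊤ := by
  have ht : S.comap proj = ⊤ := by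
    refine eq_top_of_trans (fun r => h _ p hp ?_) (fun r => h _ p hp ?_) <;>
      rw [← map_pow]
    · rw [(upR_pow r p).1, CharP.cast_eq_zero, zero_mul, ← map_one proj]
      congr 1
      refine Subtype.ext ?_; ext i j; fin_cases i <;> fin_cases j <;> simp [coe_upR]
    · rw [(upR_pow r p).2, CharP.cast_eq_zero, zero_mul, ← map_one proj]
      congr 1
      refine Subtype.ext ?_; ext i j; fin_cases i <;> fin_cases j <;> simp [coe_lowR]
  rw [← Subgroup.map_comap_eq_self_of_surjective proj_surjective S, ht,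
    Subgroup.map_top_of_surjective _ proj_surjective]

variable (p : ℕ) [Fact p.Prime] [CharP F p]
  (hodd : Odd (Fintype.card F)) (h5 : 5 ≤ Fintype.card F)
  {M : Subgroup (Matrix.ProjGenLinGroup (Fin 2) F)} (hM : IsCoatom M)
  (hML : ¬ (special : Subgroup (Matrix.ProjGenLinGroup (Fin 2) F)) ≤ M)
include hodd h5 hM hML

theorem octahedral_case (e : M ≃* Equiv.Perm (Fin 4)) (hp : 5 ≤ p) :
    Fintype.card F = p ∧ (p % 8 = 3 ∨ p % 8 = 5) ∧ Nonempty (M.comap ρ ≃* alternatingGroup (Fin 4)) := by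
  classical
  have h2 := PKlein.two_ne (F := F) hodd
  haveI := special_normal (F := F) hodd
  set M' := M.comap ρ
  set S : Subgroup (Equiv.Perm (Fin 4)) := (special : Subgroup PL).comap (M.subtype.comp e.symm.toMonoidHom)
  have hcM : Nat.card M = 24 := by rw [Nat.card_congr e.toEquiv, card_s4]
  have hc' : Nat.card M' = 12 := by
    have : Nat.card M = 2 * Nat.card M' := card_eq_two_mul hodd hM hML
    omega
  let f : M' →* Equiv.Perm (Fin 4) := e.toMonoidHom.comp (((ρ).comp M'.subtype).codRestrict M fun z => z.2)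
  have hf : Function.Injective f := e.injective.comp fun a b h => Subtype.ext (toPGL_inj (congrArg Subtype.val h))
  have hfr : f.range = alternatingGroup (Fin 4) := by
    refine Equiv.Perm.eq_alternatingGroup_of_index_eq_two ?_
    have h := f.range.card_mul_index
    rw [← Nat.card_congr (MonoidHom.ofInjective hf).toEquiv, hc', card_s4] at h
    omega
  let e' : M' ≃* alternatingGroup (Fin 4) := (MonoidHom.ofInjective hf).trans (MulEquiv.subgroupCongr hfr)
  obtain ⟨V, hV, hVle, hle⟩ := klein_of_a4 e'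
  have hV4 : Nat.card V = 4 := IsKleinFour.card_four
  haveI hVn : (V.subgroupOf M').Normal := Subgroup.normal_subgroupOf_iff_le_normalizer hVle |>.2 hle
  have hidx : (V.subgroupOf M').index = 3 := by
    have h := (V.subgroupOf M').card_mul_index
    rw [Nat.card_congr (Subgroup.subgroupOfEquivOfLe hVle).toEquiv, hV4, hc'] at h
    omega
  have hsq : ∀ z ∈ M', z * z = 1 → z ∈ V := by
    intro z hz hz2
    have h := (V.subgroupOf M').pow_index_mem ⟨z, hz⟩
    rw [hidx, Subgroup.mem_subgroupOf, Subgroup.coe_pow, pow_succ, pow_two, hz2, one_mul] at h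
    exact h
  have hVsq : ∀ v ∈ V, v * v = 1 := fun v hv => congrArg Subtype.val (IsKleinFour.mul_self (⟨v, hv⟩ : V))
  have hnorm : M ≤ Subgroup.normalizer (V.map ρ : Set PL) := by
    refine le_normalizer_of_forall fun g hg y hy => ?_
    obtain ⟨v, hv, rfl⟩ := hy
    obtain ⟨z, hz⟩ := (inferInstance : (special : Subgroup PL).Normal).conj_mem _ (toPGL_mem v) g
    refine ⟨z, hsq z ?_ (toPGL_inj ?_), hz⟩
    · show ρ z ∈ M
      rw [hz]
      exact mul_mem (mul_mem hg (hVle hv)) (inv_mem hg)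
    · rw [map_mul, hz, map_one, show g * ρ v * g⁻¹ * (g * ρ v * g⁻¹) = g * (ρ v * ρ v) * g⁻¹ by group, ← map_mul,
        hVsq v hv, map_one, mul_one, mul_inv_cancel]
  obtain ⟨hN, hcap⟩ := eq_normalizer hodd h5 hM hML (S := V) (fun h => by rw [h, Subgroup.card_bot] at hV4; omega)
    (fun h => by
      rw [h, Subgroup.card_top] at hV4
      have := card_pg (F := F)
      have h' : 5 * (5 ^ 2 - 1) ≤ Fintype.card F * (Fintype.card F ^ 2 - 1) :=
        Nat.mul_le_mul h5 (Nat.sub_le_sub_right (Nat.pow_le_pow_left h5 2) 1)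
      have : Nat.gcd 2 (Fintype.card F - 1) ≤ 2 := Nat.gcd_le_left _ two_pos
      rw [hV4] at *
      omega) hnorm
  obtain ⟨h18, h38⟩ := PKlein.card_pg_two_part (F := F) h2 rfl
  have ho := Nat.odd_iff.1 hodd
  have h8 : Fintype.card F % 8 = 3 ∨ Fintype.card F % 8 = 5 := by
    by_contra hcon
    have := KleinN.eight_dvd_normalizer V (h18 (by omega))
    rw [← hcap, hc'] at this
    norm_num at this
  obtain ⟨f₀, hf1, hf⟩ := Classical.card_field_eq_pow (F := F) p
  suffices hq : Fintype.card F = p from ⟨hq, hq ▸ h8, ⟨e'⟩⟩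
  by_contra hne
  have hf2 : 2 ≤ f₀ := by
    by_contra hc
    exact hne (by rw [hf, show f₀ = 1 by omega, pow_one])
  have hfodd : Odd f₀ := by
    by_contra hev
    obtain ⟨u, rfl⟩ := Nat.not_odd_iff_even.1 hev
    have hq8 : Fintype.card F % 8 = 1 := by
      rw [hf, pow_add]
      obtain ⟨k, hk⟩ : Odd (p ^ u) := ((Fact.out : p.Prime).odd_of_ne_two (by omega)).pow
      obtain ⟨c, hc⟩ := Nat.even_mul_succ_self k
      rw [hk, show (2 * k + 1) * (2 * k + 1) = 4 * (k * (k + 1)) + 1 by ring, hc]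
      omega
    omega
  obtain ⟨K, iK, iF, iC, hK, ⟨ι⟩⟩ := exists_prime_hom p 1 one_ne_zero hf (one_dvd _)
  rw [pow_one] at hK
  obtain ⟨φ, hφ⟩ := realize_normalizer h2 ι V _ (le_refl (Subgroup.normalizer (V : Set PG)))
  obtain ⟨ι', R, hR, hcR, ⟨eR⟩, -⟩ := exists_conj_subgroup ι φ
  set D := R.comap ρ
  have hVD : V ≤ D := Subgroup.le_normalizer.trans (hφ.trans hR)
  have hnle : ¬ R ≤ (special : Subgroup PL) := fun h =>
    SubfieldPSL.not_pgl (K := K) (F := F) hfodd (by rw [hK, hf]) hodd D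
      (((D.equivMapOfInjective ρ ProjectiveSpecialLinearGroup.toPGL_injective).trans
        (MulEquiv.subgroupCongr (Subgroup.map_comap_eq_self h))).trans eR)
  obtain ⟨g₀, hg₀R, hg₀⟩ := SetLike.not_le_iff_exists.1 hnle
  set W := ((V.map ρ).map (MulAut.conj g₀).toMonoidHom).comap ρ
  have hρ : Function.Injective (ρ) := ProjectiveSpecialLinearGroup.toPGL_injective
  have hWmap : W.map ρ = (V.map ρ).map (MulAut.conj g₀).toMonoidHom := Subgroup.map_comap_eq_self (by
    rintro _ ⟨_, ⟨v, -, rfl⟩, rfl⟩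
    exact (inferInstance : (special : Subgroup PL).Normal).conj_mem _ (toPGL_mem v) g₀)
  have hW4 : Nat.card W = 4 := by
    rw [Nat.card_congr (W.equivMapOfInjective _ hρ).toEquiv,
      hWmap, Subgroup.card_map_of_injective (MulAut.conj g₀).injective,
      Subgroup.card_map_of_injective hρ, hV4]
  have hWD : W ≤ D := by
    intro w hw
    obtain ⟨_, ⟨v, hv, rfl⟩, e1⟩ := hw
    show ρ w ∈ R
    rw [← e1]
    exact mul_mem (mul_mem hg₀R (hVD hv)) (inv_mem hg₀R)
  have : Fact (Nat.Prime 2) := ⟨Nat.prime_two⟩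
  have h8D : ¬ 8 ∣ Nat.card D := fun h => h38 h8 (h.trans D.card_subgroup_dvd_card)
  have hfact : (Nat.card D).factorization 2 = 2 := by
    have h0 : Nat.card D ≠ 0 := Nat.card_pos.ne'
    have hl : 2 ≤ (Nat.card D).factorization 2 :=
      (Nat.Prime.pow_dvd_iff_le_factorization Nat.prime_two h0).1 (by
        rw [show 2 ^ 2 = 4 from rfl, ← hV4]; exact Subgroup.card_dvd_of_le hVD)
    have hu : ¬ 3 ≤ (Nat.card D).factorization 2 := fun h =>
      h8D ((Nat.Prime.pow_dvd_iff_le_factorization Nat.prime_two h0).2 h)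
    omega
  let P₁ : Sylow 2 D := Sylow.ofCard (V.subgroupOf D) (by
    rw [Nat.card_congr (Subgroup.subgroupOfEquivOfLe hVD).toEquiv, hV4, hfact]; rfl)
  let P₂ : Sylow 2 D := Sylow.ofCard (W.subgroupOf D) (by
    rw [Nat.card_congr (Subgroup.subgroupOfEquivOfLe hWD).toEquiv, hW4, hfact]; rfl)
  obtain ⟨d, hd⟩ := MulAction.exists_smul_eq D P₁ P₂
  have hdW : ∀ w ∈ W, (d : PG)⁻¹ * w * d ∈ V := by
    intro w hw
    have hmem : (⟨w, hWD hw⟩ : D) ∈ (P₂ : Subgroup D) := Subgroup.mem_subgroupOf.2 hw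
    rw [← hd] at hmem
    obtain ⟨v, hv, hv'⟩ := hmem
    have e1 : (d : PG) * (v : PG) * (d : PG)⁻¹ = w := congrArg Subtype.val hv'
    rw [← e1]
    convert (Subgroup.mem_subgroupOf.1 hv : (v : PG) ∈ V) using 1
    group
  set g := (ρ (d : PG))⁻¹ * g₀
  have hgR : g ∈ R := mul_mem (inv_mem d.2) hg₀R
  have hgn : g ∉ (special : Subgroup PL) := fun h => hg₀ (by
    have := mul_mem (toPGL_mem (d : PG)) h
    rwa [mul_inv_cancel_left] at this)
  have hgM : g ∈ M := by
    rw [← hN]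
    refine mem_normalizer_of_forall fun y hy => ?_
    have hW' : g₀ * y * g₀⁻¹ ∈ W.map ρ := by rw [hWmap]; exact ⟨y, hy, rfl⟩
    obtain ⟨w, hw, e1⟩ := hW'
    refine ⟨_, hdW w hw, ?_⟩
    rw [map_mul, map_mul, map_inv, e1, show g = (ρ (d : PG))⁻¹ * g₀ from rfl]
    group
  have hMR : M ≤ R := by
    have hin : ∀ m ∈ M, m ∈ (special : Subgroup PL) → m ∈ R := by
      rintro m hm ⟨z, rfl⟩
      have hz : z ∈ M' := hm
      rw [show M' = M.comap ρ from rfl, hcap] at hz
      exact (hφ.trans hR) hz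
    intro m hm
    by_cases hms : m ∈ (special : Subgroup PL)
    · exact hin m hm hms
    have h' : g⁻¹ * m ∈ (special : Subgroup PL) :=
      (Subgroup.mul_mem_iff_of_index_two (special_index hodd)).2 (by simp [hgn, hms])
    have := mul_mem hgR (hin _ (mul_mem (inv_mem hgM) hm) h')
    rwa [mul_inv_cancel_left] at this
  have hRtop : R ≠ ⊤ := fun h => by
    rw [h, Subgroup.card_top, card_pgl_two, hK] at hcR
    have hlt : p < Fintype.card F := by
      rw [hf]
      calc p = p ^ 1 := (pow_one p).symm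
        _ < _ := Nat.pow_lt_pow_right (Fact.out : p.Prime).one_lt hf2
    have : p * (p ^ 2 - 1) < Fintype.card F * (Fintype.card F ^ 2 - 1) := by
      refine Nat.mul_lt_mul_of_lt_of_le hlt (Nat.sub_le_sub_right (Nat.pow_le_pow_left hlt.le 2) 1) ?_
      have : 5 ^ 2 ≤ Fintype.card F ^ 2 := Nat.pow_le_pow_left h5 2
      omega
    omega
  rw [← hMR.eq_or_lt.resolve_right fun h => hRtop (hM.2 _ h), hcM, hK] at hcR
  have : 5 * (5 ^ 2 - 1) ≤ p * (p ^ 2 - 1) := Nat.mul_le_mul hp (Nat.sub_le_sub_right (Nat.pow_le_pow_left hp 2) 1)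
  omega

theorem subfield_case {K : Type} [Field K] [Fintype K] [hKp : CharP K p] (e : M ≃* Matrix.ProjGenLinGroup (Fin 2) K) :
    ∃ (F₀ : Type) (_ : Field F₀) (_ : Fintype F₀) (r : ℕ), r.Prime ∧ Odd r ∧ 3 ≤ Fintype.card F₀ ∧
      Fintype.card F = Fintype.card F₀ ^ r ∧ Nonempty (M ≃* Matrix.ProjGenLinGroup (Fin 2) F₀) ∧
      Nonempty (M.comap ρ ≃* Matrix.ProjectiveSpecialLinearGroup (Fin 2) F₀) := by
  classical
  haveI := special_normal (F := F) hodd
  have hpp : p.Prime := Fact.out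
  have hp2 : p ≠ 2 := fun h => by
    subst h
    exact ne_two hodd (ringChar.eq F 2)
  have hpo : Odd p := hpp.odd_of_ne_two hp2
  obtain ⟨a, ha1, ha⟩ := Classical.card_field_eq_pow (F := K) p
  set s := Fintype.card K
  have hs3 : 3 ≤ s := by
    have : p ≤ s := by rw [ha]; exact Nat.le_self_pow (by omega) p
    have := hpp.two_le
    omega
  have hso : Odd s := by rw [ha]; exact hpo.pow
  set M' := M.comap ρ
  have hcM : Nat.card M = s * (s ^ 2 - 1) := by rw [Nat.card_congr e.toEquiv, card_pgl_two]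
  have hc' : 2 * Nat.card M' = s * (s ^ 2 - 1) := by rw [← hcM, card_eq_two_mul hodd hM hML]
  have hpd : p ∣ Nat.card M' := by
    refine (Nat.Coprime.dvd_mul_left (show p.Coprime 2 from (Nat.coprime_primes hpp Nat.prime_two).2 hp2)).1 ?_
    rw [hc', ha]
    exact (dvd_pow_self p (by omega)).mul_right _
  obtain ⟨y₁, hy₁, y₂, hy₂, hp₁, hp₂, hne⟩ : ∃ y₁ ∈ M', ∃ y₂ ∈ M', y₁ ^ p = 1 ∧ y₂ ^ p = 1 ∧
      y₁ * y₂ ≠ y₂ * y₁ := by
    have key : ∀ t : Matrix.SpecialLinearGroup (Fin 2) K, t ^ p = 1 →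
        ∃ y : PG, y ^ p = 1 ∧ y ∈ M' ∧
          ρ y = (e.symm (ProjGenLinGroup.mk (Matrix.SpecialLinearGroup.toGL t)) : M) := by
      intro t ht
      have h1 : ((e.symm (ProjGenLinGroup.mk (Matrix.SpecialLinearGroup.toGL t)) : M) : PL) ^ p = 1 := by
        rw [← Subgroup.coe_pow, ← map_pow, ← map_pow, ← map_pow, ht, map_one, map_one, map_one,
          OneMemClass.coe_one]
      obtain ⟨y, hy⟩ := mem_special_of_odd hodd hpo h1
      refine ⟨y, toPGL_inj (by rw [map_pow, hy, h1, map_one]), ?_, hy⟩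
      show ρ y ∈ M
      rw [hy]
      exact SetLike.coe_mem _
    obtain ⟨y₁, h1, h1', e1⟩ := key (upR 1) (by
      rw [(upR_pow (1 : K) p).1, CharP.cast_eq_zero, zero_mul]
      refine Subtype.ext ?_; ext i j; fin_cases i <;> fin_cases j <;> simp [coe_upR])
    obtain ⟨y₂, h2, h2', e2⟩ := key (lowR 1) (by
      rw [(upR_pow (1 : K) p).2, CharP.cast_eq_zero, zero_mul]
      refine Subtype.ext ?_; ext i j; fin_cases i <;> fin_cases j <;> simp [coe_lowR])
    refine ⟨y₁, h1', y₂, h2', h1, h2, fun h => ?_⟩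
    have h' := congrArg ρ h
    rw [map_mul, map_mul, e1, e2, ← Subgroup.coe_mul, ← Subgroup.coe_mul, ← map_mul, ← map_mul, ← map_mul,
      ← map_mul, ← map_mul, ← map_mul] at h'
    have h'' := e.symm.injective (Subtype.ext h')
    have h3 : proj (upR (1 : K) * lowR 1) = proj (lowR (1 : K) * upR 1) :=
      ProjectiveSpecialLinearGroup.toPGL_injective h''
    rcases proj_eq_iff.1 h3 with e3 | e3
    · have := congrArg (fun A : Matrix.SpecialLinearGroup (Fin 2) K => A.1 0 0) e3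
      simp [coe_upR, coe_lowR, Matrix.mul_apply, Fin.sum_univ_two] at this
    · have := congrArg (fun A : Matrix.SpecialLinearGroup (Fin 2) K => A.1 1 0) e3
      simp [coe_upR, coe_lowR, Matrix.mul_apply, Fin.sum_univ_two] at this
      have h20 : (2 : K) = 0 := by linear_combination this
      exact hp2 (CharP.eq K hKp (CharTwo.of_one_ne_zero_of_two_eq_zero one_ne_zero h20))
  obtain ⟨f, hf1, hf⟩ := Classical.card_field_eq_pow (F := F) p
  have hsub : SubCase p M' := by
    rcases classify_strong p M' with ⟨x, hx, hle⟩ | ⟨x, hx1, hx, hle⟩ | ⟨-, hp⟩ | ⟨-, hp⟩ | ⟨⟨e5⟩, hp⟩ | h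
    · exfalso
      have hd := hpd.trans (Subgroup.card_dvd_of_le hle)
      rw [card_normalizer_semis p hx] at hd
      rcases (Nat.Prime.dvd_mul hpp).1 hd with h | h
      · exact hp2 ((Nat.prime_dvd_prime_iff_eq hpp Nat.prime_two).1 h)
      · exact (hpp.coprime_iff_not_dvd.1 (coprime_tor_semis p hx).symm) h
    · exfalso
      exact hne (tor_comm hx1 (borel_unip p hx1 hx (hle hy₁) hp₁) (borel_unip p hx1 hx (hle hy₂) hp₂))
    · exact absurd hpd hp
    · exact absurd hpd hp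
    · exfalso
      have h3 : p = 3 := hp.resolve_left fun h => h hpd
      rw [Nat.card_congr e5.toEquiv, card_a5, ha, h3] at hc'
      rcases (show a = 1 ∨ 2 ≤ a by omega) with rfl | ha2
      · norm_num at hc'
      · have h9 : 9 ≤ 3 ^ a := by
          calc 9 = 3 ^ 2 := by norm_num
            _ ≤ _ := Nat.pow_le_pow_right (by norm_num) ha2
        have : 9 * (9 ^ 2 - 1) ≤ 3 ^ a * ((3 ^ a) ^ 2 - 1) :=
          Nat.mul_le_mul h9 (Nat.sub_le_sub_right (Nat.pow_le_pow_left h9 2) 1)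
        omega
    · exact h
  obtain ⟨K', iK', iF', m, hm, hs', ⟨φ, ι, hφ⟩, -, hiso⟩ := hsub
  obtain ⟨b, hb1, hb⟩ : ∃ b, 1 ≤ b ∧ Fintype.card K' = p ^ b := by
    have hmne : m ≠ 0 := fun h => by rw [h, pow_zero] at hm; omega
    obtain ⟨b, -, hb⟩ := (Nat.dvd_prime_pow hpp).1 (hf ▸ hm ▸ dvd_pow_self _ hmne : Fintype.card K' ∣ p ^ f)
    refine ⟨b, Nat.pos_of_ne_zero fun h => ?_, hb⟩
    rw [h, pow_zero] at hb
    omega
  set s' := Fintype.card K'
  have hs'o : Odd s' := by rw [hb]; exact hpo.pow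
  have hcases : 2 * Nat.card M' = s' * (s' ^ 2 - 1) ∨ Nat.card M' = s' * (s' ^ 2 - 1) := by
    rcases hiso with ⟨⟨e'⟩⟩ | ⟨⟨e'⟩, -⟩
    · left
      have h := card_pg (F := K')
      rw [Nat.gcd_eq_left (by rw [Nat.odd_iff] at hs'o; omega : 2 ∣ Fintype.card K' - 1)] at h
      rw [Nat.card_congr e'.toEquiv, h]
    · exact Or.inr (by rw [Nat.card_congr e'.toEquiv, card_pgl_two])
  have hcop : ∀ t : ℕ, (∃ c, 1 ≤ c ∧ t = p ^ c) → p.Coprime (t ^ 2 - 1) := by
    rintro t ⟨c, hc, rfl⟩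
    refine hpp.coprime_iff_not_dvd.2 fun h => ?_
    have h1 : p ∣ (p ^ c) ^ 2 := dvd_pow (dvd_pow_self p (by omega)) two_ne_zero
    have h2 := Nat.dvd_sub h1 h
    have : 1 ≤ (p ^ c) ^ 2 := Nat.one_le_pow _ _ (pow_pos hpp.pos _)
    rw [show (p ^ c) ^ 2 - ((p ^ c) ^ 2 - 1) = 1 by omega] at h2
    exact hpp.not_dvd_one h2
  obtain ⟨hss, hM'eq⟩ : s' = s ∧ 2 * Nat.card M' = s' * (s' ^ 2 - 1) := by
    obtain ⟨c, hc2, hc⟩ : ∃ c, (c = 1 ∨ c = 2) ∧ s * (s ^ 2 - 1) = c * (s' * (s' ^ 2 - 1)) := by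
      rcases hcases with h | h
      · exact ⟨1, Or.inl rfl, by omega⟩
      · exact ⟨2, Or.inr rfl, by omega⟩
    have hcp : p.Coprime c := by
      rcases hc2 with rfl | rfl
      · exact Nat.coprime_one_right _
      · exact (Nat.coprime_primes hpp Nat.prime_two).2 hp2
    have h1 : s ∣ s' := by
      have hd : s ∣ c * (s' * (s' ^ 2 - 1)) := hc ▸ dvd_mul_right _ _
      rw [ha] at hd ⊢
      exact ((hcop s' ⟨b, hb1, hb⟩).pow_left a).dvd_of_dvd_mul_right
        ((hcp.pow_left a).dvd_of_dvd_mul_left hd)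
    have h2 : s' ∣ s := by
      have hd : s' ∣ s * (s ^ 2 - 1) := hc ▸ (dvd_mul_right _ _).mul_left _
      rw [hb] at hd ⊢
      exact ((hcop s ⟨a, ha1, ha⟩).pow_left b).dvd_of_dvd_mul_right hd
    have he := Nat.dvd_antisymm h2 h1
    exact ⟨he, by rw [hc', he]⟩
  rw [hss] at hM'eq
  have hiso' : Nonempty (M' ≃* Matrix.ProjectiveSpecialLinearGroup (Fin 2) K') := by
    rcases hiso with h | ⟨⟨e'⟩, -⟩
    · exact h
    · exfalso
      have h : Nat.card M' = s' * (s' ^ 2 - 1) := by rw [Nat.card_congr e'.toEquiv, card_pgl_two]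
      rw [hss] at h
      have : 0 < Nat.card M' := Nat.card_pos
      omega
  obtain ⟨ι', R, hR, hcR, ⟨eR⟩, u, hu⟩ := exists_conj_subgroup ι φ
  have hR' : M' ≤ R.comap ρ := le_trans hφ hR
  have hcR : Nat.card R = s * (s ^ 2 - 1) := by rw [hcR, ← hss]
  have hρ : Function.Injective (ρ) := ProjectiveSpecialLinearGroup.toPGL_injective
  have hidx : ((M'.map ρ).subgroupOf R).index = 2 := by
    have hle' : M'.map ρ ≤ R := Subgroup.map_le_iff_le_comap.2 hR'
    have h := ((M'.map ρ).subgroupOf R).card_mul_index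
    rw [Nat.card_congr (Subgroup.subgroupOfEquivOfLe hle').toEquiv,
      Subgroup.card_map_of_injective hρ, hcR, ← hM'eq, mul_comm 2] at h
    exact Nat.eq_of_mul_eq_mul_left Nat.card_pos h
  have hne' : M' ≠ ⊥ := fun h => by
    rw [h, Subgroup.card_bot] at hpd
    exact hpp.not_dvd_one hpd
  have hMnorm : M ≤ Subgroup.normalizer (M'.map ρ : Set PL) := by
    refine le_normalizer_of_forall fun g hg x hx => ?_
    obtain ⟨v, hv, rfl⟩ := hx
    obtain ⟨z, hz⟩ := (inferInstance : (special : Subgroup PL).Normal).conj_mem _ (toPGL_mem v) g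
    refine ⟨z, ?_, hz⟩
    show ρ z ∈ M
    rw [hz]
    exact mul_mem (mul_mem hg hv) (inv_mem hg)
  have htop' : M' ≠ ⊤ := fun h => hML (by
    rintro _ ⟨z, rfl⟩
    exact (h ▸ Subgroup.mem_top z : z ∈ M'))
  obtain ⟨hN, -⟩ := eq_normalizer hodd h5 hM hML hne' htop' hMnorm
  have hRM : R = M := by
    refine Subgroup.eq_of_le_of_card_ge (hN ▸ ?_) (by rw [hcR, hcM])
    exact (Subgroup.normal_subgroupOf_iff_le_normalizer (Subgroup.map_le_iff_le_comap.2 hR')).1
      (Subgroup.normal_of_index_eq_two hidx)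
  have hmeven : ¬ Even m := fun hev => not_le_special hodd hM hML (by
    rw [← hRM, hu]
    rintro _ ⟨w, hw, rfl⟩
    exact (inferInstance : (special : Subgroup PL).Normal).conj_mem _ (range_pglMap_le hodd ι' hev hm hw) u)
  refine ⟨K', iK', iF', m, ?_, Nat.not_even_iff_odd.1 hmeven, hs', hm.symm,
    ⟨(MulEquiv.subgroupCongr hRM.symm).trans eR⟩, hiso'⟩
  refine Nat.prime_def_lt.2 ⟨?_, fun v hv hvd => ?_⟩
  · by_contra hc
    interval_cases m
    · exact hmeven ⟨0, rfl⟩
    · refine hM.1 (Subgroup.eq_top_of_card_eq _ ?_)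
      rw [hcM, card_pgl_two, ← hm, pow_one, hss]
  · by_contra hv1
    have hv0 : v ≠ 0 := fun h => by
      rw [h, zero_dvd_iff] at hvd
      exact hmeven (hvd ▸ ⟨0, rfl⟩)
    obtain ⟨w, hw⟩ := hvd
    haveI : Fintype (GaloisField p (b * v)) := Fintype.ofFinite _
    have hK₁ : Fintype.card (GaloisField p (b * v)) = s' ^ v := by
      rw [← Nat.card_eq_fintype_card, GaloisField.card p _ (Nat.mul_ne_zero (by omega) hv0), hb, pow_mul]
    obtain ⟨ι₁⟩ := SubfieldPSL.exists_ringHom (F := F) (K := GaloisField p (b * v)) (m := w)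
      (by rw [hK₁, ← pow_mul, ← hw, hm])
    have hle : M ≤ (SubfieldPSL.pglMap ι₁).range.map (MulAut.conj u).toMonoidHom := by
      rw [← hRM, hu]
      exact Subgroup.map_mono (range_pglMap_mono ι' ι₁ ⟨v, hK₁.symm⟩)
    have hc1 : Nat.card ((SubfieldPSL.pglMap ι₁).range.map (MulAut.conj u).toMonoidHom) =
        s' ^ v * ((s' ^ v) ^ 2 - 1) := by
      rw [Subgroup.card_map_of_injective (MulAut.conj u).injective, card_range_pglMap, hK₁]
    have hlt1 : s' < s' ^ v := by
      calc s' = s' ^ 1 := (pow_one _).symm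
        _ < _ := Nat.pow_lt_pow_right (by omega) (by omega)
    have hlt2 : s' ^ v < Fintype.card F := hm ▸ Nat.pow_lt_pow_right (by omega) hv
    have hmono : ∀ x y : ℕ, 2 ≤ x → x < y → x * (x ^ 2 - 1) < y * (y ^ 2 - 1) := fun x y hx hxy => by
      refine Nat.mul_lt_mul_of_lt_of_le hxy (Nat.sub_le_sub_right (Nat.pow_le_pow_left hxy.le 2) 1) ?_
      have : 3 ^ 2 ≤ y ^ 2 := Nat.pow_le_pow_left (by omega) 2
      omega
    rcases hle.eq_or_lt with h | h
    · have := hmono _ _ (by omega) hlt1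
      rw [← hc1, ← h, hcM, hss] at this
      omega
    · have := hmono _ _ (by omega) hlt2
      rw [← hc1, hM.2 _ h, Subgroup.card_top, card_pgl_two] at this
      omega

end Cfsg.Agent.Classical.Dickson2.PGLMax
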