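import Mathlib
import Cfsg.Agent.Classical.Dickson2.PGL.Exc

/-!
The maximal subgroups of PGL(2,q) and their intersections with PSL(2,q).
-/

set_option autoImplicit false

namespace Cfsg.Agent.Classical.Dickson2.PGLMax

open Matrix Cfsg.Agent.SL2Class
open scoped MatrixGroups

variable {F : Type*} [Field F] [Fintype F]

local notation "PG" => Matrix.ProjectiveSpecialLinearGroup (Fin 2) F
local notation "PL" => Matrix.ProjGenLinGroup (Fin 2) F
local notation "ρ" => ProjectiveSpecialLinearGroup.toPGL (n := Fin 2) (R := F)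

variable (p : ℕ) [Fact p.Prime] [CharP F p]

/-- The four types of maximal subgroups not containing PSL(2,q). -/
theorem maximal_types (hodd : Odd (Fintype.card F)) (h5 : 5 ≤ Fintype.card F) {M : Subgroup PL}
    (hM : IsCoatom M) (hML : ¬ (special : Subgroup PL) ≤ M) :
    (∃ y : PG, y ≠ 1 ∧ y ^ p = 1 ∧ M.comap ρ = Subgroup.normalizer (tor y : Set PG) ∧
      Nat.card M = Fintype.card F * (Fintype.card F - 1)) ∨
    (∃ y : PG, y ^ p ≠ 1 ∧ M.comap ρ = Subgroup.normalizer (tor y : Set PG) ∧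
      (Fintype.card F = 5 → Nat.card (tor y) ≠ 2) ∧
      Nonempty (M ≃* DihedralGroup (2 * Nat.card (tor y)))) ∨
    (Fintype.card F = p ∧ (p % 8 = 3 ∨ p % 8 = 5) ∧ Nonempty (M ≃* Equiv.Perm (Fin 4)) ∧
      Nonempty (M.comap ρ ≃* alternatingGroup (Fin 4))) ∨
    (∃ (F₀ : Type) (_ : Field F₀) (_ : Fintype F₀) (r : ℕ), r.Prime ∧ Odd r ∧ 3 ≤ Fintype.card F₀ ∧
      Fintype.card F = Fintype.card F₀ ^ r ∧ Nonempty (M ≃* Matrix.ProjGenLinGroup (Fin 2) F₀) ∧
      Nonempty (M.comap ρ ≃* Matrix.ProjectiveSpecialLinearGroup (Fin 2) F₀)) := by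
  obtain ⟨f, hf1, hf⟩ := Classical.card_field_eq_pow (F := F) p
  haveI : Fintype (GaloisField p (f * 2)) := Fintype.ofFinite _
  have hE : Fintype.card F ^ 2 = Fintype.card (GaloisField p (f * 2)) := by
    rw [← Nat.card_eq_fintype_card (α := GaloisField p (f * 2)), GaloisField.card p _ (by omega), hf, pow_mul]
  obtain ⟨κ⟩ := SubfieldPSL.exists_ringHom (F := GaloisField p (f * 2)) (K := F) hE
  obtain ⟨Ψ, hΨi, hΨ⟩ := exists_embedding hodd κ hE
  have hp2 : p ≠ 2 := fun h => by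
    subst h
    exact ne_two hodd (ringChar.eq F 2)
  have hcard : Nat.card (M.map Ψ) = Nat.card M := Subgroup.card_map_of_injective hΨi
  let eM : M ≃* M.map Ψ := M.equivMapOfInjective Ψ hΨi
  rcases classify_strong p (M.map Ψ) with ⟨x, hx, hle⟩ | ⟨x, hx1, hx, hle⟩ | ⟨⟨e⟩, -⟩ | ⟨⟨e⟩, hp⟩ | ⟨⟨e⟩, -⟩ | h
  · exact Or.inr (Or.inl (toral_case p hΨi hΨ hodd h5 hM hML hx hle))
  · rcases borel_case p hΨi hΨ hodd h5 hM hML hx1 hx hle with h | ⟨x', hx', hle'⟩
    · exact Or.inl h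
    · exact Or.inr (Or.inl (toral_case p hΨi hΨ hodd h5 hM hML hx' hle'))
  · exact absurd (le_special_of (eM.trans e) alt_generated hodd) (not_le_special hodd hM hML)
  · right; right; left
    have hp5 : 5 ≤ p := ge_five_of_not_dvd p (n := 24) (by norm_num)
      (by rwa [Nat.card_congr e.toEquiv, card_s4] at hp)
    obtain ⟨h1, h2, h3⟩ := octahedral_case p hodd h5 hM hML (eM.trans e) hp5
    exact ⟨h1, h2, ⟨eM.trans e⟩, h3⟩
  · exact absurd (le_special_of (eM.trans e) alt_generated hodd) (not_le_special hodd hM hML)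
  · right; right; right
    obtain ⟨K, iK, iF, m, -, -, ⟨-, ι, -⟩, -, hiso⟩ := h
    haveI : CharP K p := RingHom.charP ι ι.injective p
    rcases hiso with ⟨⟨e⟩⟩ | ⟨⟨e⟩, -⟩
    · exact absurd (le_special_of (eM.trans e) (psl_generated p ((Fact.out : p.Prime).odd_of_ne_two hp2)) hodd)
        (not_le_special hodd hM hML)
    · exact subfield_case p hodd h5 hM hML (eM.trans e)

omit [Fact p.Prime] [CharP F p] in
theorem two_mul_tor (hodd : Odd (Fintype.card F)) {q : ℕ} [Fact q.Prime] [CharP F q] {y : PG} (hy : y ^ q ≠ 1) :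
    2 * Nat.card (tor y) = Fintype.card F - 1 ∨ 2 * Nat.card (tor y) = Fintype.card F + 1 := by
  have h := card_tor_semis q hy
  rw [Nat.gcd_eq_left (by rw [Nat.odd_iff] at hodd; omega : 2 ∣ Fintype.card F - 1)] at h
  omega

omit [Fact p.Prime] [CharP F p] in
/-- The list of the maximal subgroups of PGL(2,q) not containing PSL(2,q). -/
theorem maximal_list (hodd : Odd (Fintype.card F)) (h5 : 5 ≤ Fintype.card F) {M : Subgroup PL}
    (hM : IsCoatom M) (hML : ¬ (special : Subgroup PL) ≤ M) :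
    Nat.card M = Fintype.card F * (Fintype.card F - 1) ∨
    (Fintype.card F ≠ 5 ∧ Nonempty (M ≃* DihedralGroup (Fintype.card F - 1))) ∨
    Nonempty (M ≃* DihedralGroup (Fintype.card F + 1)) ∨
    ((Fintype.card F).Prime ∧ (Fintype.card F % 8 = 3 ∨ Fintype.card F % 8 = 5) ∧
      Nonempty (M ≃* Equiv.Perm (Fin 4))) ∨
    (∃ (F₀ : Type) (_ : Field F₀) (_ : Fintype F₀) (r : ℕ), r.Prime ∧ Odd r ∧
      Fintype.card F = Fintype.card F₀ ^ r ∧ Nonempty (M ≃* Matrix.ProjGenLinGroup (Fin 2) F₀)) := by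
  obtain ⟨q, hq⟩ := CharP.exists F
  haveI : Fact q.Prime := by
    obtain ⟨n, hp, -⟩ := FiniteField.card F q
    exact ⟨hp⟩
  rcases maximal_types q hodd h5 hM hML with ⟨y, -, -, -, h⟩ | ⟨y, hy, -, hq5, ⟨e⟩⟩ | ⟨h1, h2, h3, -⟩ |
      ⟨F₀, i1, i2, r, h1, h2, -, h3, h4, -⟩
  · exact Or.inl h
  · rcases two_mul_tor hodd hy with h | h
    · exact Or.inr (Or.inl ⟨fun h' => hq5 h' (by omega), h ▸ ⟨e⟩⟩)
    · exact Or.inr (Or.inr (Or.inl (h ▸ ⟨e⟩)))
  · exact Or.inr (Or.inr (Or.inr (Or.inl ⟨h1 ▸ Fact.out, h1 ▸ h2, h3⟩)))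
  · exact Or.inr (Or.inr (Or.inr (Or.inr ⟨F₀, i1, i2, r, h1, h2, h3, h4⟩)))

end Cfsg.Agent.Classical.Dickson2.PGLMax
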