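import Mathlib
import Cfsg.Agent.Classical.Dickson2.PGL.Main
import Cfsg.Agent.Classical.Dickson2.Exceptional

/-!
The icosahedral subgroups of PSL(2,11).
-/

set_option autoImplicit false

namespace Cfsg.Agent.Classical.Dickson2.Eleven

open Matrix Cfsg.Agent.SL2Class
open scoped MatrixGroups Pointwise

theorem zmod_fact : Fact (Nat.Prime 11) := ⟨by norm_num⟩

attribute [local instance] zmod_fact

/-- The coordinates of the elements of trace zero. -/
theorem count_zero : Nat.card {t : ZMod 11 × ZMod 11 × ZMod 11 // t.1 * -t.1 - t.2.1 * t.2.2 = 1} ≤ 110 := by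
  rw [Nat.card_eq_fintype_card]
  decide +kernel

/-- The coordinates of the elements of trace minus one whose product with the standard involution has order five. -/
theorem count_pairs : Nat.card {t : ZMod 11 × ZMod 11 × ZMod 11 // t.1 * (-1 - t.1) - t.2.1 * t.2.2 = 1 ∧
    ((t.2.1 - t.2.2) * (t.2.1 - t.2.2) - (t.2.1 - t.2.2) - 1) *
      ((t.2.1 - t.2.2) * (t.2.1 - t.2.2) + (t.2.1 - t.2.2) - 1) = 0} ≤ 48 := by
  rw [Nat.card_eq_fintype_card]
  decide +kernel

theorem perm_pair :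
    ∀ σ : Equiv.Perm (Fin 5), σ * (Equiv.swap 0 1 * Equiv.swap 2 3) = Equiv.swap 0 1 * Equiv.swap 2 3 * σ →
      σ * (Equiv.swap 0 2 * Equiv.swap 2 4) = Equiv.swap 0 2 * Equiv.swap 2 4 * σ → σ = 1 := by
  decide +kernel

theorem perm_pair_orders :
    (Equiv.swap 0 1 * Equiv.swap 2 3 : Equiv.Perm (Fin 5)) ^ 2 = 1 ∧
    (Equiv.swap 0 2 * Equiv.swap 2 4 : Equiv.Perm (Fin 5)) ^ 3 = 1 ∧
    (Equiv.swap 0 1 * Equiv.swap 2 3 * (Equiv.swap 0 2 * Equiv.swap 2 4) : Equiv.Perm (Fin 5)) ^ 5 = 1 ∧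
    Equiv.swap 0 1 * Equiv.swap 2 3 ≠ (1 : Equiv.Perm (Fin 5)) ∧
    Equiv.swap 0 2 * Equiv.swap 2 4 ≠ (1 : Equiv.Perm (Fin 5)) ∧
    Equiv.swap 0 1 * Equiv.swap 2 3 * (Equiv.swap 0 2 * Equiv.swap 2 4) ≠ (1 : Equiv.Perm (Fin 5)) ∧
    Equiv.Perm.sign (Equiv.swap 0 1 * Equiv.swap 2 3 : Equiv.Perm (Fin 5)) = 1 ∧
    Equiv.Perm.sign (Equiv.swap 0 2 * Equiv.swap 2 4 : Equiv.Perm (Fin 5)) = 1 := by
  decide +kernel

variable {F : Type*} [Field F]

local notation "SG" => Matrix.SpecialLinearGroup (Fin 2) F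
local notation "PG" => Matrix.ProjectiveSpecialLinearGroup (Fin 2) F

theorem coeff_zero {g : SG} (hns : NonScalar g) {n : ℕ} (hn : proj g ^ n = 1) {a b : F}
    (hab : (g ^ n).1 = lin g a b) : b = 0 := by
  rw [← map_pow, proj_eq_one, mem_center_cases] at hn
  rcases hn with e | e <;> rw [e] at hab
  · have : lin g 1 0 = lin g a b := by rw [lin_one]; simpa using hab
    exact (lin_ext hns this).2.symm
  · have : lin g (-1) 0 = lin g a b := by
      rw [← hab, Matrix.SpecialLinearGroup.coe_neg, Matrix.SpecialLinearGroup.coe_one, lin, zero_smul, add_zero,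
        neg_one_smul]
    exact (lin_ext hns this).2.symm

theorem pow_two_tr {g : SG} (h : proj g ^ 2 = 1) (h1 : proj g ≠ 1) : tr g = 0 :=
  coeff_zero (nonScalar_of_proj_ne h1) h (a := -1) (by rw [pow_two, Matrix.SpecialLinearGroup.coe_mul, g_sq])

theorem pow_three_tr {g : SG} (h : proj g ^ 3 = 1) (h1 : proj g ≠ 1) : tr g = 1 ∨ tr g = -1 := by
  have e3 : (g ^ 3).1 = lin g (-1) (tr g) * lin g 0 1 := by
    rw [pow_succ, pow_two, Matrix.SpecialLinearGroup.coe_mul, Matrix.SpecialLinearGroup.coe_mul, g_sq, lin_self]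
  rw [lin_mul] at e3
  have h0 := coeff_zero (nonScalar_of_proj_ne h1) h e3
  exact mul_self_eq_one_iff.1 (show tr g * tr g = 1 by linear_combination h0)

theorem pow_five_tr {g : SG} (h : proj g ^ 5 = 1) (h1 : proj g ≠ 1) :
    (tr g * tr g - tr g - 1) * (tr g * tr g + tr g - 1) = 0 := by
  have e5 : (g ^ 5).1 = lin g (-1) (tr g) * lin g (-1) (tr g) * lin g 0 1 := by
    rw [show (5 : ℕ) = 2 + 2 + 1 from rfl, pow_succ, pow_add, pow_two, Matrix.SpecialLinearGroup.coe_mul,
      Matrix.SpecialLinearGroup.coe_mul, Matrix.SpecialLinearGroup.coe_mul, g_sq, lin_self]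
  rw [lin_mul, lin_mul] at e5
  have h0 := coeff_zero (nonScalar_of_proj_ne h1) h e5
  linear_combination h0

theorem ext_of_tr {h h' : SG} (ht : tr h = tr h') (h00 : h.1 0 0 = h'.1 0 0) (h01 : h.1 0 1 = h'.1 0 1)
    (h10 : h.1 1 0 = h'.1 1 0) : h = h' := by
  have h11 : h.1 1 1 = h'.1 1 1 := by
    simp only [tr] at ht
    rw [h00] at ht
    exact add_left_cancel ht
  refine Subtype.ext (Matrix.ext fun i j => ?_)
  fin_cases i <;> fin_cases j <;> assumption

theorem tr_conjSL (P : GL (Fin 2) F) (w : SG) : tr (AutPSL.conjSL P w) = tr w := by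
  have e : ∀ A : SG, tr A = Matrix.trace A.1 := fun A => by
    simp [tr, Matrix.trace, Matrix.diag, Fin.sum_univ_two]
  rw [e, e, AutPSL.conjSL_coe, Matrix.trace_mul_comm, ← Matrix.mul_assoc, Units.inv_mul, Matrix.one_mul]

variable [Fintype F]

theorem two_ne (hF : Fintype.card F = 11) : (2 : F) ≠ 0 := PKlein.two_ne (by rw [hF]; decide)

theorem card_trace_zero (hF : Fintype.card F = 11) : Nat.card {g : SG // tr g = 0} ≤ 110 := by
  let e : F ≃+* ZMod 11 := FiniteField.ringEquivOfCardEq (by rw [hF, ZMod.card])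
  refine le_trans (Nat.card_le_card_of_injective
    (fun g : {g : SG // tr g = 0} => (⟨(e (g.1.1 0 0), e (g.1.1 0 1), e (g.1.1 1 0)), by
      have hd := det_eq g.1
      have ht : g.1.1 1 1 = -g.1.1 0 0 := eq_neg_of_add_eq_zero_right g.2
      rw [ht] at hd
      rw [← map_neg, ← map_mul, ← map_mul, ← map_sub, hd, map_one]⟩ :
      {t : ZMod 11 × ZMod 11 × ZMod 11 // t.1 * -t.1 - t.2.1 * t.2.2 = 1})) ?_) count_zero
  intro g g' h
  simp only [Subtype.mk.injEq, Prod.mk.injEq] at h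
  exact Subtype.ext (ext_of_tr (g.2.trans g'.2.symm) (e.injective h.1) (e.injective h.2.1) (e.injective h.2.2))

theorem card_sols (hF : Fintype.card F = 11) {g : SG} (hg : tr g = 0) :
    Nat.card {h : SG // tr h = -1 ∧
      (tr (g * h) * tr (g * h) - tr (g * h) - 1) * (tr (g * h) * tr (g * h) + tr (g * h) - 1) = 0} ≤ 48 := by
  have h2 := two_ne hF
  have hns : ∀ k : SG, tr k = 0 → NonScalar k := fun k hk hs => by
    by_contra hc
    rcases scalar_eq (g := k) (fun hn => hn hs) with e | e <;> rw [e] at hk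
    · exact h2 (by simpa [tr, one_add_one_eq_two] using hk)
    · exact h2 (by simpa [tr, ← two_mul] using hk)
  obtain ⟨P, hP, hPg⟩ := exists_conjugator (hns g hg) (hns (comp 0) (tr_comp 0)) (hg.trans (tr_comp 0).symm)
  set P' := Matrix.GeneralLinearGroup.mkOfDetNeZero P hP with hP'
  have hJ : AutPSL.conjSL P' g = comp 0 := conjSL_eq_of_mul (by simpa [hP'] using hPg)
  let e : F ≃+* ZMod 11 := FiniteField.ringEquivOfCardEq (by rw [hF, ZMod.card])
  refine le_trans (Nat.card_le_card_of_injective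
    (fun h : {h : SG // tr h = -1 ∧
      (tr (g * h) * tr (g * h) - tr (g * h) - 1) * (tr (g * h) * tr (g * h) + tr (g * h) - 1) = 0} =>
      (⟨(e ((AutPSL.conjSL P' h.1).1 0 0), e ((AutPSL.conjSL P' h.1).1 0 1), e ((AutPSL.conjSL P' h.1).1 1 0)), by
        obtain ⟨h, ht, hc⟩ := h
        rw [← tr_conjSL P'] at ht
        rw [← tr_conjSL P', map_mul, hJ] at hc
        set k := AutPSL.conjSL P' h
        have hd := det_eq k
        have h11 : k.1 1 1 = -1 - k.1 0 0 := by
          simp only [tr] at ht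
          linear_combination ht
        have htJ : tr (comp 0 * k) = k.1 0 1 - k.1 1 0 := by
          simp [tr, coe_comp, Matrix.SpecialLinearGroup.coe_mul, Matrix.mul_apply, Fin.sum_univ_two]
          ring
        rw [h11] at hd
        rw [htJ] at hc
        refine ⟨?_, ?_⟩
        · rw [← map_one e, ← map_neg, ← map_sub, ← map_mul, ← map_mul, ← map_sub, hd]
        · have := congrArg e hc
          simpa using this⟩ :
      {t : ZMod 11 × ZMod 11 × ZMod 11 // t.1 * (-1 - t.1) - t.2.1 * t.2.2 = 1 ∧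
        ((t.2.1 - t.2.2) * (t.2.1 - t.2.2) - (t.2.1 - t.2.2) - 1) *
          ((t.2.1 - t.2.2) * (t.2.1 - t.2.2) + (t.2.1 - t.2.2) - 1) = 0})) ?_) count_pairs
  intro h h' he
  simp only [Subtype.mk.injEq, Prod.mk.injEq] at he
  refine Subtype.ext ((AutPSL.conjSL P').injective (ext_of_tr ?_ (e.injective he.1) (e.injective he.2.1)
    (e.injective he.2.2)))
  rw [tr_conjSL, tr_conjSL, h.2.1, h'.2.1]

theorem eq_of_common {M M' : Subgroup PG} (e : M ≃* alternatingGroup (Fin 5))
    (e' : M' ≃* alternatingGroup (Fin 5)) {x y : PG} (hx : x ∈ M) (hx' : x ∈ M') (hy : y ∈ M) (hy' : y ∈ M')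
    (ox : orderOf x = 2) (oy : orderOf y = 3) (oxy : orderOf (x * y) = 5) : M = M' := by
  set K := M ⊓ M'
  have hc : Nat.card M = 60 := by rw [Nat.card_congr e.toEquiv, card_a5]
  have hc' : Nat.card M' = 60 := by rw [Nat.card_congr e'.toEquiv, card_a5]
  have hd : ∀ z : PG, z ∈ K → orderOf z ∣ Nat.card K := fun z hz => Subgroup.orderOf_dvd_natCard K hz
  have h2 := ox ▸ hd x ⟨hx, hx'⟩
  have h3 := oy ▸ hd y ⟨hy, hy'⟩
  have h5 := oxy ▸ hd (x * y) ⟨mul_mem hx hy, mul_mem hx' hy'⟩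
  have h60 : Nat.card K ∣ 60 := hc ▸ Subgroup.card_dvd_of_le inf_le_left
  have h30 : 30 ∣ Nat.card K :=
    Nat.Coprime.mul_dvd_of_dvd_of_dvd (by norm_num : Nat.Coprime 6 5)
      (Nat.Coprime.mul_dvd_of_dvd_of_dvd (by norm_num : Nat.Coprime 2 3) h2 h3) h5
  have hle := Nat.le_of_dvd (by norm_num) h60
  have hpos : 0 < Nat.card K := Nat.card_pos
  rcases (show Nat.card K = 30 ∨ Nat.card K = 60 by omega) with hK | hK
  · exfalso
    set S := (K.subgroupOf M).map e.toMonoidHom
    have hidx : S.index = 2 := by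
      have h := S.card_mul_index
      rw [Subgroup.card_map_of_injective e.injective,
        Nat.card_congr (Subgroup.subgroupOfEquivOfLe (inf_le_left : K ≤ M)).toEquiv, hK, card_a5] at h
      omega
    have htop : S = ⊤ := PGLMax.alt_generated S fun a n hn ha => by
      obtain ⟨k, rfl⟩ := hn
      rw [show a = (a ^ 2) ^ (k + 1) by
        rw [← pow_mul, show 2 * (k + 1) = 2 * k + 1 + 1 by ring, pow_succ, ha, one_mul]]
      exact Subgroup.pow_mem _ (Subgroup.sq_mem_of_index_two hidx a) _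
    rw [htop, Subgroup.index_top] at hidx
    omega
  · have h1 : K = M := Subgroup.eq_of_le_of_card_ge inf_le_left (by omega)
    have h2 : K = M' := Subgroup.eq_of_le_of_card_ge inf_le_right (by omega)
    exact h1.symm.trans h2

theorem card_a5_subgroups_le (hF : Fintype.card F = 11) :
    Nat.card {M : Subgroup PG // Nonempty (M ≃* alternatingGroup (Fin 5))} ≤ 22 := by
  classical
  have h2 := two_ne hF
  set A := {M : Subgroup PG // Nonempty (M ≃* alternatingGroup (Fin 5))}
  obtain ⟨oa, ob, oab, a1, b1, ab1, sa, sb⟩ := perm_pair_orders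
  set a : alternatingGroup (Fin 5) := ⟨_, Equiv.Perm.mem_alternatingGroup.2 sa⟩ with ha
  set b : alternatingGroup (Fin 5) := ⟨_, Equiv.Perm.mem_alternatingGroup.2 sb⟩ with hb
  let cj : Equiv.Perm (Fin 5) → alternatingGroup (Fin 5) → alternatingGroup (Fin 5) := fun σ t =>
    ⟨σ * t.1 * σ⁻¹, (inferInstance : (alternatingGroup (Fin 5)).Normal).conj_mem _ t.2 σ⟩
  let X : A → Equiv.Perm (Fin 5) → PG := fun M σ => ((M.2.some.symm (cj σ a) : M.1) : PG)
  let Y : A → Equiv.Perm (Fin 5) → PG := fun M σ => ((M.2.some.symm (cj σ b) : M.1) : PG)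
  have hord : ∀ (M : A) σ (t : alternatingGroup (Fin 5)) (n : ℕ) [Fact n.Prime], t.1 ^ n = 1 → t.1 ≠ 1 →
      orderOf ((M.2.some.symm (cj σ t) : M.1) : PG) = n := by
    intro M σ t n _ h h1
    rw [Subgroup.orderOf_coe, MulEquiv.orderOf_eq, ← Subgroup.orderOf_coe]
    refine orderOf_eq_prime ?_ fun hh => h1 (conj_eq_one_iff.1 hh)
    show (σ * t.1 * σ⁻¹) ^ n = 1
    rw [conj_pow, h, mul_one, mul_inv_cancel]
  haveI : Fact (Nat.Prime 2) := ⟨Nat.prime_two⟩
  haveI : Fact (Nat.Prime 3) := ⟨Nat.prime_three⟩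
  haveI : Fact (Nat.Prime 5) := ⟨Nat.prime_five⟩
  have hX : ∀ M σ, orderOf (X M σ) = 2 := fun M σ => hord M σ a 2 oa a1
  have hY : ∀ M σ, orderOf (Y M σ) = 3 := fun M σ => hord M σ b 3 ob b1
  have hXY : ∀ M σ, orderOf (X M σ * Y M σ) = 5 := fun M σ => by
    have e : X M σ * Y M σ = ((M.2.some.symm (cj σ (a * b)) : M.1) : PG) := by
      show ((M.2.some.symm (cj σ a) : M.1) : PG) * _ = _
      rw [← Subgroup.coe_mul, ← map_mul]
      congr 2
      exact Subtype.ext (by simp [cj, mul_assoc])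
    rw [e]
    exact hord M σ (a * b) 5 oab ab1
  let lz : Bool → PG → SG := fun c x => if c then sect x else -sect x
  let lm : PG → SG := fun y => if tr (sect y) = -1 then sect y else -sect y
  have plz : ∀ c x, proj (lz c x) = x := fun c x => by
    cases c <;> simp only [lz, Bool.false_eq_true, if_false, if_true, proj_sect]
    exact (proj_eq_iff.2 (Or.inr (PKlein.neg_neg' _).symm)).trans (proj_sect x)
  have plm : ∀ y, proj (lm y) = y := fun y => by
    by_cases h : tr (sect y) = -1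
    · simp only [lm, if_pos h, proj_sect]
    · simp only [lm, if_neg h]
      exact (proj_eq_iff.2 (Or.inr (PKlein.neg_neg' _).symm)).trans (proj_sect y)
  have hne : ∀ (x : PG) (n : ℕ), orderOf x = n → 1 < n → x ≠ 1 := fun x n h hn e => by
    rw [e, orderOf_one] at h; omega
  have htz : ∀ M σ c, tr (lz c (X M σ)) = 0 := fun M σ c =>
    pow_two_tr (by rw [plz]; exact orderOf_dvd_iff_pow_eq_one.1 (hX M σ).dvd) (by rw [plz]; exact hne _ 2 (hX M σ) (by norm_num))
  have htm : ∀ M σ, tr (lm (Y M σ)) = -1 := fun M σ => by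
    by_cases h : tr (sect (Y M σ)) = -1
    · simp only [lm, if_pos h, h]
    · simp only [lm, if_neg h]
      rw [tr_neg, (pow_three_tr (g := sect (Y M σ)) (by rw [proj_sect, ← hY M σ, pow_orderOf_eq_one])
        (by rw [proj_sect]; exact hne _ 3 (hY M σ) (by norm_num))).resolve_right h]
  have htp : ∀ M σ c, (tr (lz c (X M σ) * lm (Y M σ)) * tr (lz c (X M σ) * lm (Y M σ)) -
      tr (lz c (X M σ) * lm (Y M σ)) - 1) * (tr (lz c (X M σ) * lm (Y M σ)) * tr (lz c (X M σ) * lm (Y M σ)) +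
      tr (lz c (X M σ) * lm (Y M σ)) - 1) = 0 := fun M σ c =>
    pow_five_tr (by rw [map_mul, plz, plm, ← hXY M σ, pow_orderOf_eq_one])
      (by rw [map_mul, plz, plm]; exact hne _ 5 (hXY M σ) (by norm_num))
  let Φ : A × Equiv.Perm (Fin 5) × Bool → Σ g : {g : SG // tr g = 0}, {h : SG // tr h = -1 ∧
      (tr (g.1 * h) * tr (g.1 * h) - tr (g.1 * h) - 1) * (tr (g.1 * h) * tr (g.1 * h) + tr (g.1 * h) - 1) = 0} :=
    fun z => ⟨⟨lz z.2.2 (X z.1 z.2.1), htz _ _ _⟩, ⟨lm (Y z.1 z.2.1), htm _ _, htp _ _ _⟩⟩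
  have hΦ : Function.Injective Φ := by
    rintro ⟨M, σ, c⟩ ⟨M', σ', c'⟩ he
    have e1 : lz c (X M σ) = lz c' (X M' σ') := congrArg (fun z => z.1.1) he
    have e2 : lm (Y M σ) = lm (Y M' σ') := congrArg (fun z => z.2.1) he
    have hXe : X M σ = X M' σ' := by rw [← plz c (X M σ), e1, plz]
    have hYe : Y M σ = Y M' σ' := by rw [← plm (Y M σ), e2, plm]
    obtain rfl : M = M' := Subtype.ext (eq_of_common M.2.some M'.2.some (SetLike.coe_mem _)
      (show X M σ ∈ M'.1 by rw [hXe]; exact SetLike.coe_mem _) (SetLike.coe_mem _)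
      (show Y M σ ∈ M'.1 by rw [hYe]; exact SetLike.coe_mem _) (hX M σ) (hY M σ) (hXY M σ))
    have ea : σ * a.1 * σ⁻¹ = σ' * a.1 * σ'⁻¹ :=
      congrArg Subtype.val (M.2.some.symm.injective (Subtype.ext hXe))
    have eb : σ * b.1 * σ⁻¹ = σ' * b.1 * σ'⁻¹ :=
      congrArg Subtype.val (M.2.some.symm.injective (Subtype.ext hYe))
    have key : ∀ t : Equiv.Perm (Fin 5), σ * t * σ⁻¹ = σ' * t * σ'⁻¹ → (σ'⁻¹ * σ) * t = t * (σ'⁻¹ * σ) := by
      intro t h
      calc σ'⁻¹ * σ * t = σ'⁻¹ * (σ * t * σ⁻¹) * σ := by group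
        _ = t * (σ'⁻¹ * σ) := by rw [h]; group
    obtain rfl : σ' = σ := inv_mul_eq_one.1 (perm_pair _ (key _ ea) (key _ eb))
    cases c <;> cases c'
    · rfl
    · exact absurd (e1 : -sect (X M σ') = sect (X M σ')).symm (PKlein.ne_neg h2 _)
    · exact absurd (e1 : sect (X M σ') = -sect (X M σ')) (PKlein.ne_neg h2 _)
    · rfl
  have hcard := Nat.card_le_card_of_injective Φ hΦ
  haveI : Fintype {g : SG // tr g = 0} := Fintype.ofFinite _
  rw [Nat.card_prod, Nat.card_prod, Nat.card_perm, Nat.card_fin, Nat.card_eq_fintype_card (α := Bool),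
    Fintype.card_bool, Nat.card_sigma] at hcard
  have hsum := Finset.sum_le_card_nsmul (Finset.univ : Finset {g : SG // tr g = 0}) _ 48
    (fun g _ => card_sols hF g.2)
  have h110 := card_trace_zero (F := F) hF
  rw [Nat.card_eq_fintype_card, ← Finset.card_univ] at h110
  have := Nat.mul_le_mul_right 48 h110
  simp only [Nat.factorial, smul_eq_mul] at hcard hsum
  omega

theorem card_pg_eleven (hF : Fintype.card F = 11) : Nat.card PG = 660 := by
  have h := card_pg (F := F)
  rw [hF] at h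
  norm_num at h
  omega

theorem normalizer_a5 (hF : Fintype.card F = 11) {M : Subgroup PG} (e : M ≃* alternatingGroup (Fin 5)) :
    Subgroup.normalizer (M : Set PG) = M := by
  have hG := card_pg_eleven hF
  have hc : Nat.card M = 60 := by rw [Nat.card_congr e.toEquiv, card_a5]
  haveI := isSimple_pg (F := F) (by omega)
  have hne : Subgroup.normalizer (M : Set PG) ≠ ⊤ := fun h => by
    rcases (Subgroup.normalizer_eq_top_iff.1 h).eq_bot_or_eq_top with h' | h'
    · rw [h', Subgroup.card_bot] at hc; omega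
    · rw [h', Subgroup.card_top] at hc; omega
  refine (Subgroup.eq_of_le_of_card_ge Subgroup.le_normalizer ?_).symm
  obtain ⟨k, hk⟩ := Subgroup.card_dvd_of_le (Subgroup.le_normalizer : M ≤ _)
  rw [hc] at hk ⊢
  have hd : 60 * k ∣ 60 * 11 := by
    rw [← hk, show (60 * 11 : ℕ) = 660 from rfl, ← hG]
    exact Subgroup.card_subgroup_dvd_card _
  rcases (Nat.dvd_prime (by norm_num : Nat.Prime 11)).1 (Nat.dvd_of_mul_dvd_mul_left (by norm_num) hd) with rfl | rfl
  · omega
  · exact absurd (Subgroup.eq_top_of_card_eq _ (by rw [hk, hG])) hne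

omit [Fintype F] in
theorem conj_smul_eq_map {G : Type*} [Group G] (g : G) (H : Subgroup G) :
    MulAut.conj g • H = H.map (MulAut.conj g).toMonoidHom := rfl

theorem card_orbit_a5 (hF : Fintype.card F = 11) {M : Subgroup PG} (e : M ≃* alternatingGroup (Fin 5)) :
    Nat.card {L : Subgroup PG // ∃ g : PG, MulAut.conj g • M = L} = 11 := by
  have key : ∀ g g' : PG, MulAut.conj g • M = MulAut.conj g' • M ↔ g⁻¹ * g' ∈ M := fun g g' => by
    have h : g⁻¹ * g' ∈ M ↔ MulAut.conj (g⁻¹ * g') • M = M := by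
      constructor
      · intro h
        rw [conj_smul_eq_map]
        exact Subgroup.eq_of_le_of_card_ge (by
            rintro _ ⟨x, hx, rfl⟩
            exact mul_mem (mul_mem h hx) (inv_mem h))
          (Subgroup.card_map_of_injective (MulAut.conj (g⁻¹ * g')).injective).ge
      · intro h
        rw [← normalizer_a5 hF e]
        refine PGLMax.mem_normalizer_of_forall fun x hx => ?_
        rw [← h]
        exact ⟨x, hx, rfl⟩
    rw [h, map_mul, map_inv, mul_smul, inv_smul_eq_iff]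
    exact eq_comm
  have hq : Nat.card (PG ⧸ M) = 11 := by
    have h := M.card_eq_card_quotient_mul_card_subgroup
    rw [card_pg_eleven hF, Nat.card_congr e.toEquiv, card_a5] at h
    omega
  rw [← hq]
  refine (Nat.card_eq_of_bijective (fun x : PG ⧸ M =>
    Quotient.liftOn' x (fun g => (⟨MulAut.conj g • M, g, rfl⟩ : {L : Subgroup PG // ∃ g : PG, MulAut.conj g • M = L}))
      fun a b hab => Subtype.ext ((key a b).2 (QuotientGroup.leftRel_apply.1 hab))) ⟨?_, ?_⟩).symm
  · intro x y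
    induction x using QuotientGroup.induction_on with | H a => ?_
    induction y using QuotientGroup.induction_on with | H b => ?_
    intro h
    exact QuotientGroup.eq.2 ((key a b).1 (congrArg Subtype.val h))
  · rintro ⟨L, g, rfl⟩
    exact ⟨(g : PG ⧸ M), rfl⟩

theorem no_outer_normalizer (hF : Fintype.card F = 11) {M : Subgroup PG} (e : M ≃* alternatingGroup (Fin 5))
    {u : Matrix.ProjGenLinGroup (Fin 2) F}
    (hu : u ∈ Subgroup.normalizer (M.map ProjectiveSpecialLinearGroup.toPGL :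
      Set (Matrix.ProjGenLinGroup (Fin 2) F))) : u ∈ PGLMax.special := by
  by_contra hus
  have hodd : Odd (Fintype.card F) := by rw [hF]; decide
  haveI : Fact (Nat.Prime 11) := zmod_fact
  haveI : CharP F 11 := charP_of_card (F := F) hF
  have hG := card_pg_eleven hF
  have hc : Nat.card M = 60 := by rw [Nat.card_congr e.toEquiv, card_a5]
  set X := Subgroup.normalizer (M.map ProjectiveSpecialLinearGroup.toPGL : Set (Matrix.ProjGenLinGroup (Fin 2) F))
  haveI := isSimple_pg (F := F) (by omega)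
  have hXtop : X ≠ ⊤ := fun h => by
    have hn : M.Normal := by
      refine ⟨fun x hx g => ?_⟩
      have hg : ProjectiveSpecialLinearGroup.toPGL g ∈ X := by rw [h]; exact Subgroup.mem_top _
      have := (Subgroup.mem_normalizer_iff.1 hg (ProjectiveSpecialLinearGroup.toPGL x)).1
        (Subgroup.mem_map_of_mem _ hx)
      rw [← map_inv, ← map_mul, ← map_mul] at this
      exact (Subgroup.mem_map_iff_mem ProjectiveSpecialLinearGroup.toPGL_injective).1 this
    rcases hn.eq_bot_or_eq_top with h' | h'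
    · rw [h', Subgroup.card_bot] at hc; omega
    · rw [h', Subgroup.card_top] at hc; omega
  obtain ⟨Y, hY, hXY⟩ := (eq_top_or_exists_le_coatom X).resolve_left hXtop
  have hMY : M ≤ Y.comap ProjectiveSpecialLinearGroup.toPGL :=
    Subgroup.map_le_iff_le_comap.1 (Subgroup.le_normalizer.trans hXY)
  have hYs : ¬ (PGLMax.special : Subgroup _) ≤ Y := fun h => by
    have hlt : (PGLMax.special : Subgroup _) < Y := lt_of_le_of_ne h fun he => hus (he ▸ hXY hu)
    have h2 : Nat.card (PGLMax.special : Subgroup (Matrix.ProjGenLinGroup (Fin 2) F)) < Nat.card Y := by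
      by_contra hc
      exact hlt.ne (Subgroup.eq_of_le_of_card_ge h (by omega))
    obtain ⟨k, hk⟩ := Subgroup.card_dvd_of_le h
    have h3 := Y.card_mul_index
    rw [PGLMax.card_special, hG] at hk h2
    rw [hk, card_pgl_two, hF] at h3
    norm_num at h3
    have hi : Y.index ≠ 1 := fun hi => hY.1 (Subgroup.index_eq_one.1 hi)
    have hi0 : 0 < Y.index := Nat.pos_of_ne_zero fun h0 => by rw [h0] at h3; omega
    have : 660 * k * 2 ≤ 660 * k * Y.index := Nat.mul_le_mul_left _ (by omega)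
    omega
  have hne : Y.comap ProjectiveSpecialLinearGroup.toPGL ≠ ⊤ := fun h => hYs (by
    rintro _ ⟨z, rfl⟩
    exact (h ▸ Subgroup.mem_top z : z ∈ Y.comap ProjectiveSpecialLinearGroup.toPGL))
  have hcY : Nat.card (Y.comap (ProjectiveSpecialLinearGroup.toPGL (n := Fin 2) (R := F))) = 60 := by
    obtain ⟨k, hk⟩ := Subgroup.card_dvd_of_le hMY
    rw [hc] at hk
    have hd : 60 * k ∣ 60 * 11 := by
      rw [← hk, show (60 * 11 : ℕ) = 660 from rfl, ← hG]
      exact Subgroup.card_subgroup_dvd_card _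
    rcases (Nat.dvd_prime (by norm_num : Nat.Prime 11)).1 (Nat.dvd_of_mul_dvd_mul_left (by norm_num) hd) with
      rfl | rfl
    · omega
    · exact absurd (Subgroup.eq_top_of_card_eq _ (by rw [hk, hG])) hne
  rcases PGLMax.maximal_types 11 hodd (by omega) hY hYs with ⟨y, hy1, hy, hcap, -⟩ | ⟨y, hy, hcap, -, -⟩ |
      ⟨-, -, -, ⟨e'⟩⟩ | ⟨F₀, i1, i2, r, h1, -, h3, h4, -, -⟩
  · rw [hcap] at hcY
    have h := card_normalizer_unip 11 hy1 hy
    rw [hcY, hF] at h
    norm_num at h
  · rw [hcap, card_normalizer_semis 11 hy] at hcY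
    have := PGLMax.two_mul_tor hodd hy
    omega
  · rw [Nat.card_congr e'.toEquiv, card_a4] at hcY
    omega
  · rw [hF] at h4
    have hd : Fintype.card F₀ ∣ 11 := h4 ▸ dvd_pow_self _ h1.ne_zero
    rcases (Nat.dvd_prime (by norm_num : Nat.Prime 11)).1 hd with h | h
    · omega
    · rw [h] at h4
      exact h1.ne_one (Nat.pow_right_injective (by norm_num : 2 ≤ 11) (h4.symm.trans (pow_one 11).symm))

theorem a5_count (hF : Fintype.card F = 11) :
    Nat.card {H : Subgroup PG // Nonempty (H ≃* alternatingGroup (Fin 5))} = 22 ∧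
      ∃ H K : Subgroup PG, Nonempty (H ≃* alternatingGroup (Fin 5)) ∧ Nonempty (K ≃* alternatingGroup (Fin 5)) ∧
        (∀ g : PG, MulAut.conj g • H ≠ K) ∧
        ∀ L : Subgroup PG, Nonempty (L ≃* alternatingGroup (Fin 5)) →
          ∃ g : PG, MulAut.conj g • L = H ∨ MulAut.conj g • L = K := by
  classical
  have hodd : Odd (Fintype.card F) := by rw [hF]; decide
  haveI := PGLMax.special_normal (F := F) hodd
  obtain ⟨H, ⟨e⟩⟩ := (A5InPSL.main (F := F) hF).2 (by norm_num)
  have hu0 : (-1 : F) ≠ 0 := neg_ne_zero.2 one_ne_zero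
  set U : GL (Fin 2) F := Matrix.GeneralLinearGroup.mkOfDetNeZero !![-1, 0; 0, 1] (by simp [det_fin_two_of]) with hU
  have hus : ProjGenLinGroup.mk U ∉ (PGLMax.special : Subgroup (Matrix.ProjGenLinGroup (Fin 2) F)) := by
    rintro ⟨x, hx⟩
    obtain ⟨g, rfl⟩ := proj_surjective x
    rw [PGLMax.toPGL_proj, ProjGenLinGroup.mk_eq_mk_iff] at hx
    obtain ⟨c, hc⟩ := hx
    have hd := congrArg (fun A : GL (Fin 2) F => A.1.det) hc
    simp [hU, Matrix.GeneralLinearGroup.mkOfDetNeZero, det_fin_two_of, g.2] at hd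
    have hsq : IsSquare (-1 : F) := ⟨c, by linear_combination -hd⟩
    rw [FiniteField.isSquare_neg_one_iff, hF] at hsq
    exact hsq rfl
  set u := ProjGenLinGroup.mk U
  set K := ((H.map ProjectiveSpecialLinearGroup.toPGL).map (MulAut.conj u).toMonoidHom).comap
    (ProjectiveSpecialLinearGroup.toPGL (n := Fin 2) (R := F)) with hK
  have hKmap : K.map ProjectiveSpecialLinearGroup.toPGL =
      (H.map ProjectiveSpecialLinearGroup.toPGL).map (MulAut.conj u).toMonoidHom := Subgroup.map_comap_eq_self (by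
    rintro _ ⟨_, ⟨v, -, rfl⟩, rfl⟩
    exact (inferInstance : (PGLMax.special : Subgroup _).Normal).conj_mem _ (PGLMax.toPGL_mem v) u)
  have hρ : Function.Injective (ProjectiveSpecialLinearGroup.toPGL (n := Fin 2) (R := F)) :=
    ProjectiveSpecialLinearGroup.toPGL_injective
  have eK : K ≃* alternatingGroup (Fin 5) :=
    ((K.equivMapOfInjective _ hρ).trans (MulEquiv.subgroupCongr hKmap)).trans
      (((Subgroup.equivMapOfInjective _ _ (MulAut.conj u).injective).symm.trans
        (H.equivMapOfInjective _ hρ).symm).trans e)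
  have hnc : ∀ g : PG, MulAut.conj g • H ≠ K := by
    intro g hg
    refine hus ?_
    have hin : (ProjectiveSpecialLinearGroup.toPGL g)⁻¹ * u ∈
        (PGLMax.special : Subgroup (Matrix.ProjGenLinGroup (Fin 2) F)) := by
      refine no_outer_normalizer hF e (PGLMax.mem_normalizer_of_forall fun y hy => ?_)
      have h1 : u * y * u⁻¹ ∈ K.map ProjectiveSpecialLinearGroup.toPGL := by
        rw [hKmap]; exact ⟨y, hy, rfl⟩
      rw [← hg] at h1
      obtain ⟨_, ⟨w, hw, rfl⟩, e1⟩ := h1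
      refine ⟨w, hw, ?_⟩
      have e2 : ProjectiveSpecialLinearGroup.toPGL ((MulAut.conj g) w) = u * y * u⁻¹ := e1
      rw [MulAut.conj_apply, map_mul, map_mul, map_inv] at e2
      calc ProjectiveSpecialLinearGroup.toPGL w = (ProjectiveSpecialLinearGroup.toPGL g)⁻¹ *
          (ProjectiveSpecialLinearGroup.toPGL g * ProjectiveSpecialLinearGroup.toPGL w *
            (ProjectiveSpecialLinearGroup.toPGL g)⁻¹) * ProjectiveSpecialLinearGroup.toPGL g := by group
        _ = _ := by rw [e2]; group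
    have := mul_mem (PGLMax.toPGL_mem g) hin
    rwa [mul_inv_cancel_left] at this
  set A : Set (Subgroup PG) := {L | Nonempty (L ≃* alternatingGroup (Fin 5))}
  set O₁ : Set (Subgroup PG) := {L | ∃ g : PG, MulAut.conj g • H = L}
  set O₂ : Set (Subgroup PG) := {L | ∃ g : PG, MulAut.conj g • K = L}
  have h1 : O₁.ncard = 11 := card_orbit_a5 hF e
  have h2 : O₂.ncard = 11 := card_orbit_a5 hF eK
  have hdisj : Disjoint O₁ O₂ := by
    rw [Set.disjoint_left]
    rintro L ⟨g, rfl⟩ ⟨g', hg'⟩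
    refine hnc (g'⁻¹ * g) ?_
    rw [map_mul, map_inv, mul_smul, inv_smul_eq_iff, hg']
  have hsub : O₁ ∪ O₂ ⊆ A := by
    rintro L (⟨g, rfl⟩ | ⟨g, rfl⟩)
    · exact ⟨(Subgroup.equivMapOfInjective H (MulAut.conj g).toMonoidHom (MulAut.conj g).injective).symm.trans e⟩
    · exact ⟨(Subgroup.equivMapOfInjective K (MulAut.conj g).toMonoidHom (MulAut.conj g).injective).symm.trans eK⟩
  have hA : A.ncard ≤ 22 := card_a5_subgroups_le hF
  have hU : (O₁ ∪ O₂).ncard = 22 := by rw [Set.ncard_union_eq hdisj, h1, h2]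
  have heq : O₁ ∪ O₂ = A := Set.eq_of_subset_of_ncard_le hsub (by omega) (Set.toFinite _)
  refine ⟨?_, H, K, ⟨e⟩, ⟨eK⟩, hnc, fun L hL => ?_⟩
  · have : A.ncard = 22 := by rw [← heq, hU]
    exact this
  · rcases (heq ▸ hL : L ∈ O₁ ∪ O₂) with ⟨g, rfl⟩ | ⟨g, rfl⟩
    · exact ⟨g⁻¹, Or.inl (by rw [map_inv, inv_smul_smul])⟩
    · exact ⟨g⁻¹, Or.inr (by rw [map_inv, inv_smul_smul])⟩

end Cfsg.Agent.Classical.Dickson2.Eleven
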