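import Mathlib
import Cfsg.Agent.Classical.Dickson2.PGL.Main
import Cfsg.Agent.Classical.Dickson2.Dihedral

/-!
Maximal subgroups of PGL(2,q) meet PSL(2,q) in maximal subgroups, with few exceptions.
-/

set_option autoImplicit false

namespace Cfsg.Agent.Classical.Dickson2.PGLMax

open Matrix Cfsg.Agent.SL2Class
open scoped MatrixGroups

variable {F : Type*} [Field F] [Fintype F]

local notation "PG" => Matrix.ProjectiveSpecialLinearGroup (Fin 2) F
local notation "PL" => Matrix.ProjGenLinGroup (Fin 2) F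
local notation "ρ" => ProjectiveSpecialLinearGroup.toPGL (n := Fin 2) (R := F)

theorem isCoatom_borel (p : ℕ) [Fact p.Prime] [CharP F p] (h5 : 5 ≤ Fintype.card F) {y : PG} (hy1 : y ≠ 1)
    (hy : y ^ p = 1) : IsCoatom (Subgroup.normalizer (tor y : Set PG)) := by
  refine coatom_of (normalizer_unip_ne_top p hy1 hy) fun M hle htop => ?_
  have hq := card_tor_unip p hy1 hy
  have hqM : Fintype.card F ∣ Nat.card M := hq ▸ Subgroup.card_dvd_of_le (Subgroup.le_normalizer.trans hle)
  have hym : y ∈ M := hle (Subgroup.le_normalizer (mem_tor y))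
  obtain ⟨f, hf1, hf⟩ := Classical.card_field_eq_pow (F := F) p
  have hpM : p ∣ Nat.card M := (hf ▸ dvd_pow_self p (by omega) : p ∣ Fintype.card F).trans hqM
  rcases classify_strong p M with ⟨x, hx, h⟩ | ⟨x, hx1, hx, h⟩ | ⟨-, hp⟩ | ⟨-, hp⟩ | ⟨⟨e⟩, hp⟩ | h
  · exfalso
    by_cases hyx : y ∈ tor x
    · exact semis_of_mem p hx hyx hy1 hy
    · have h2 := (inverts_of_not_mem p hx (h hym) hyx).1
      have : p = 2 := (Nat.prime_dvd_prime_iff_eq Fact.out Nat.prime_two).1
        (orderOf_eq_prime hy hy1 ▸ orderOf_dvd_of_pow_eq_one (show y ^ 2 = 1 by rw [pow_two, h2]))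
      subst this
      have hd := hqM.trans (Subgroup.card_dvd_of_le h)
      rw [card_normalizer_semis 2 hx, hf] at hd
      have hcop : (2 ^ f).Coprime (Nat.card (tor x)) := (coprime_tor_semis 2 hx).symm.pow_left f
      have := Nat.le_of_dvd two_pos (hcop.dvd_of_dvd_mul_right hd)
      omega
  · rw [← tor_eq hx1 (borel_unip p hx1 hx (h hym) hy) hy1] at h
    exact Subgroup.card_le_of_le h
  · exact absurd hpM hp
  · exact absurd hpM hp
  · exfalso
    have h3 : p = 3 := hp.resolve_left fun h => h hpM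
    rw [Nat.card_congr e.toEquiv, card_a5, hf, h3] at hqM
    rcases (show f = 1 ∨ 2 ≤ f by omega) with rfl | hf2
    · rw [hf, h3] at h5; norm_num at h5
    · have := (pow_dvd_pow 3 hf2).trans hqM
      norm_num at this
  · exfalso
    obtain ⟨s, m, hm, hs, -, hcard, -⟩ := sub_card p h
    have hm2 := sub_proper hm hcard htop
    have hd : Fintype.card F ∣ s * (s ^ 2 - 1) := by
      refine hqM.trans ?_
      rcases hcard with h' | ⟨h', -⟩
      · exact h' ▸ dvd_mul_right _ _
      · exact h' ▸ dvd_rfl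
    obtain ⟨a, -, ha⟩ := (Nat.dvd_prime_pow Fact.out).1 (hf ▸ hm ▸ dvd_pow_self s (by omega) : s ∣ p ^ f)
    have ha0 : a ≠ 0 := fun h => by rw [h, pow_zero] at ha; omega
    have hcop : (Fintype.card F).Coprime (s ^ 2 - 1) := by
      rw [hf]
      refine Nat.Coprime.pow_left _ ((Fact.out : p.Prime).coprime_iff_not_dvd.2 fun h => ?_)
      have h1 : p ∣ s ^ 2 := dvd_pow (ha ▸ dvd_pow_self p ha0) two_ne_zero
      have h2 := Nat.dvd_sub h1 h
      have : 1 ≤ s ^ 2 := Nat.one_le_pow _ _ (by omega)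
      rw [show s ^ 2 - (s ^ 2 - 1) = 1 by omega] at h2
      exact (Fact.out : p.Prime).not_dvd_one h2
    have hle := Nat.le_of_dvd (by omega) (hcop.dvd_of_dvd_mul_right hd)
    rw [← hm] at hle
    have : s ^ 1 < s ^ m := Nat.pow_lt_pow_right (by omega) (by omega)
    rw [pow_one] at this
    omega

theorem subgroupOf_eq (M : Subgroup PL) :
    (M ⊓ special).subgroupOf (special : Subgroup PL) = (M.comap ρ).map
      (MonoidHom.ofInjective (ProjectiveSpecialLinearGroup.toPGL_injective (n := Fin 2) (R := F))).toMonoidHom := by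
  ext x
  rw [Subgroup.inf_subgroupOf_right, Subgroup.mem_subgroupOf]
  constructor
  · intro hx
    obtain ⟨z, hz⟩ := x.2
    refine ⟨z, ?_, Subtype.ext hz⟩
    show ρ z ∈ M
    rwa [hz]
  · rintro ⟨z, hz, rfl⟩
    exact hz

theorem isCoatom_map {G H : Type*} [Group G] [Group H] (e : G ≃* H) {K : Subgroup G} (h : IsCoatom K) :
    IsCoatom (K.map e.toMonoidHom) := by
  have hi : Function.Injective e.toMonoidHom := e.injective
  have hsu : Function.Surjective e.toMonoidHom := e.surjective
  refine ⟨fun ht => h.1 ?_, fun L hL => ?_⟩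
  · rw [← Subgroup.comap_map_eq_self_of_injective hi K, ht, Subgroup.comap_top]
  · have h' : K < L.comap e.toMonoidHom := by
      rw [← Subgroup.comap_map_eq_self_of_injective hi K]
      exact (Subgroup.comap_lt_comap_of_surjective hsu).2 hL
    rw [← Subgroup.map_comap_eq_self_of_surjective hsu L, h.2 _ h',
      Subgroup.map_top_of_surjective _ hsu]

/-- A maximal subgroup of PGL(2,q) meets PSL(2,q) in a maximal subgroup. -/
theorem meets_maximally (h4 : 4 ≤ Fintype.card F) (h7 : Fintype.card F ≠ 7) (h9 : Fintype.card F ≠ 9)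
    (h11 : Fintype.card F ≠ 11) (h40 : (Fintype.card F).Prime → Fintype.card F % 40 ∉ ({11, 19, 21, 29} : Finset ℕ))
    {M : Subgroup PL} (hM : IsCoatom M) (hML : ¬ (special : Subgroup PL) ≤ M) :
    IsCoatom ((M ⊓ special).subgroupOf (special : Subgroup PL)) := by
  rw [subgroupOf_eq]
  refine isCoatom_map _ ?_
  rcases Nat.mod_two_eq_zero_or_one (Fintype.card F) with he | ho
  · have hs : (special : Subgroup PL) = ⊤ := Subgroup.eq_top_of_card_eq _ (by
      rw [card_special, card_pgl_two, ← card_pg (F := F),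
        Nat.prime_two.coprime_iff_not_dvd.2 (by omega : ¬ 2 ∣ Fintype.card F - 1), one_mul])
    have hsurj : Function.Surjective (ρ) := MonoidHom.range_eq_top.1 hs
    let e : PG ≃* PL := MulEquiv.ofBijective (ρ) ⟨ProjectiveSpecialLinearGroup.toPGL_injective, hsurj⟩
    have h := isCoatom_map e.symm hM
    rwa [← Subgroup.comap_equiv_eq_map_symm'] at h
  have hodd : Odd (Fintype.card F) := Nat.odd_iff.2 ho
  have h5 : 5 ≤ Fintype.card F := by omega
  obtain ⟨q, hq⟩ := CharP.exists F
  haveI : Fact q.Prime := by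
    obtain ⟨n, hp, -⟩ := FiniteField.card F q
    exact ⟨hp⟩
  rcases maximal_types q hodd h5 hM hML with ⟨y, hy1, hy, hcap, -⟩ | ⟨y, hy, hcap, hq5, -⟩ |
      ⟨h1, h2, -, ⟨e⟩⟩ | ⟨F₀, i1, i2, r, h1, h2, h3, h4', -, ⟨e⟩⟩
  · exact hcap ▸ isCoatom_borel q h5 hy1 hy
  · refine hcap ▸ isCoatom_toral q (by omega) h9 hy ?_
    have h := two_mul_tor hodd hy
    by_cases hf : Fintype.card F = 5
    · have := hq5 hf
      right
      exact ⟨by omega, Or.inr hf⟩
    · left
      have hne : Fintype.card F ≠ 6 := prime_pow_not_six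
      omega
  · refine coatom_a4 q h1 (by omega) h2 ?_ e
    have h40' := h40 (h1 ▸ Fact.out)
    simp only [Finset.mem_insert, Finset.mem_singleton] at h40'
    omega
  · have hodd₀ : Odd (Fintype.card F₀) := by
      rw [h4'] at hodd
      exact (Nat.odd_pow_iff h1.ne_zero).1 hodd
    exact coatom_psl (Fintype.card F₀) r rfl h4' h1
      (Or.inl ⟨hodd₀, fun h => by rw [h] at h2; exact absurd h2 (by decide)⟩) e

end Cfsg.Agent.Classical.Dickson2.PGLMax
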